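import Mathlib
import Cfsg.Agent.Lib.ClassSizes.Basic
import Cfsg.Agent.Lib.Inv59.EightAuto
import Cfsg.Agent.Lib.Induced.Burnside

/-!
# Centralizer orders in a simple group: basic facts
-/

set_option autoImplicit false
set_option linter.unusedSectionVars false
set_option linter.style.haveILetI false

namespace Cfsg.Agent.Lib.Inv59.RankThree

open Cfsg.Agent.Lib.ClassSizes.Basic

universe u

variable {G : Type u} [Group G]

/-- The order of the centralizer. -/
noncomputable def cn (x : G) : ℕ := Nat.card (Subgroup.centralizer ({x} : Set G))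

theorem mem_self (x : G) : x ∈ Subgroup.centralizer ({x} : Set G) := mem_cen.2 rfl

theorem cen_le_pow (x : G) (k : ℕ) :
    Subgroup.centralizer ({x} : Set G) ≤ Subgroup.centralizer ({x ^ k} : Set G) := fun _ h =>
  mem_cen.2 ((show Commute x _ from mem_cen.1 h).pow_left k)

theorem center_bot [IsSimpleGroup G] (hG : ¬ IsMulCommutative G) : Subgroup.center G = ⊥ := by
  rcases IsSimpleGroup.eq_bot_or_eq_top_of_normal (Subgroup.center G) inferInstance with h | h
  · exact h
  · exact absurd ⟨⟨fun a b => Subgroup.mem_center_iff.1 (h ▸ Subgroup.mem_top b) a⟩⟩ hG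

theorem cen_ne_top [IsSimpleGroup G] (hG : ¬ IsMulCommutative G) {x : G} (hx : x ≠ 1) :
    Subgroup.centralizer ({x} : Set G) ≠ ⊤ := fun h => hx (by
  have hm : x ∈ Subgroup.center G := Subgroup.mem_center_iff.2 fun g =>
    ((mem_cen (x := x) (y := g)).1 (h ▸ Subgroup.mem_top g)).symm
  rw [center_bot hG] at hm
  exact Subgroup.mem_bot.1 hm)

theorem cen_conj (g x : G) : Subgroup.centralizer ({g * x * g⁻¹} : Set G) =
    (Subgroup.centralizer ({x} : Set G)).map (MulAut.conj g).toMonoidHom := by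
  ext y
  rw [mem_cen_conj, Subgroup.mem_map_equiv, MulAut.conj_symm_apply]

theorem cn_conj (g x : G) : cn (g * x * g⁻¹) = cn x := by
  rw [cn, cn, cen_conj]
  exact Subgroup.card_map_of_injective (MulAut.conj g).injective

theorem conj_ne_one {g x : G} (hx : x ≠ 1) : g * x * g⁻¹ ≠ 1 := fun h => hx (conj_eq_one_iff.1 h)

variable [Finite G]

theorem orderOf_dvd_cn (x : G) : orderOf x ∣ cn x := by
  have h := orderOf_dvd_natCard (⟨x, mem_self x⟩ : Subgroup.centralizer ({x} : Set G))
  rwa [Subgroup.orderOf_mk] at h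

theorem orderOf_dvd_cn' {x y : G} (h : y ∈ Subgroup.centralizer ({x} : Set G)) :
    orderOf y ∣ cn x := by
  have h' := orderOf_dvd_natCard (⟨y, h⟩ : Subgroup.centralizer ({x} : Set G))
  rwa [Subgroup.orderOf_mk] at h'

theorem cn_mul_index (x : G) :
    cn x * (Subgroup.centralizer ({x} : Set G)).index = Nat.card G :=
  Subgroup.card_mul_index _

theorem cn_pos (x : G) : 0 < cn x := Nat.card_pos

theorem cn_dvd_of_le {x y : G}
    (h : Subgroup.centralizer ({x} : Set G) ≤ Subgroup.centralizer ({y} : Set G)) : cn x ∣ cn y :=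
  Subgroup.card_dvd_of_le h

theorem eq_of_le_cn {x y : G}
    (h : Subgroup.centralizer ({x} : Set G) ≤ Subgroup.centralizer ({y} : Set G))
    (hc : cn x = cn y) :
    Subgroup.centralizer ({x} : Set G) = Subgroup.centralizer ({y} : Set G) :=
  Subgroup.eq_of_le_of_card_ge h hc.ge

/-- A power of prime order. -/
theorem exists_prime_pow {x : G} (hx : x ≠ 1) :
    ∃ p k, p.Prime ∧ orderOf (x ^ k) = p ∧ x ^ k ≠ 1 := by
  have h1 : orderOf x ≠ 1 := fun h => hx (orderOf_eq_one_iff.1 h)
  obtain ⟨p, hp, hd⟩ := Nat.exists_prime_and_dvd h1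
  refine ⟨p, orderOf x / p, hp, orderOf_pow_orderOf_div (orderOf_pos x).ne' hd, fun h => ?_⟩
  have := orderOf_pow_orderOf_div (orderOf_pos x).ne' hd
  rw [h, orderOf_one] at this
  exact hp.ne_one this.symm

theorem exists_pow_of_dvd {x : G} {p : ℕ} (hp : p.Prime) (hd : p ∣ orderOf x) :
    ∃ k, orderOf (x ^ k) = p ∧ x ^ k ≠ 1 := by
  refine ⟨orderOf x / p, orderOf_pow_orderOf_div (orderOf_pos x).ne' hd, fun h => ?_⟩
  have := orderOf_pow_orderOf_div (orderOf_pos x).ne' hd
  rw [h, orderOf_one] at this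
  exact hp.ne_one this.symm

theorem ne_one_of_prime {x : G} {p : ℕ} (hp : p.Prime) (h : orderOf x = p) : x ≠ 1 := fun e => by
  rw [e, orderOf_one] at h
  exact hp.ne_one h.symm

/-- An element of prime order is conjugate into any subgroup of index prime to that prime. -/
theorem exists_conj_mem {p : ℕ} (hp : p.Prime) {H : Subgroup G} (h : ¬ p ∣ H.index) {y : G}
    (hy : orderOf y = p) : ∃ g : G, g * y * g⁻¹ ∈ H := by
  haveI := Fact.mk hp
  have hP : IsPGroup p (Subgroup.zpowers y) :=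
    IsPGroup.of_card (n := 1) (by rw [Nat.card_zpowers, hy, pow_one])
  obtain ⟨P, hle⟩ := hP.exists_le_sylow
  obtain ⟨Q, hQ⟩ := exists_sylow_le h
  obtain ⟨g, hg⟩ := MulAction.exists_smul_eq G P Q
  refine ⟨g, hQ ?_⟩
  rw [← hg, Sylow.coe_subgroup_smul]
  exact Subgroup.smul_mem_pointwise_smul y (MulAut.conj g) _ (hle (Subgroup.mem_zpowers y))

/-- An element of prime order commutes with a conjugate of any element whose class size is prime
to it. -/
theorem exists_conj_commute {p : ℕ} (hp : p.Prime) {x y : G}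
    (h : ¬ p ∣ (Subgroup.centralizer ({x} : Set G)).index) (hy : orderOf y = p) :
    ∃ g : G, y ∈ Subgroup.centralizer ({g * x * g⁻¹} : Set G) := by
  obtain ⟨g, hg⟩ := exists_conj_mem hp h hy
  refine ⟨g⁻¹, ?_⟩
  rw [mem_cen_conj, inv_inv]
  exact hg

/-- In a simple group two commuting non-identity elements do not have coprime class sizes. -/
theorem not_coprime_commute [IsSimpleGroup G] (hG : ¬ IsMulCommutative G) {x y : G} (hx : x ≠ 1)
    (hy : y ≠ 1) (hxy : x ∈ Subgroup.centralizer ({y} : Set G)) :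
    ¬ Nat.Coprime (Subgroup.centralizer ({x} : Set G)).index
      (Subgroup.centralizer ({y} : Set G)).index := by
  intro hcop
  set X := Subgroup.centralizer ({x} : Set G) with hX
  set Y := Subgroup.centralizer ({y} : Set G) with hY
  have hrel : X.index ∣ X.relIndex Y := by
    have h1 : X.index ∣ (X ⊓ Y).index := Subgroup.index_dvd_of_le inf_le_left
    rw [← Subgroup.relIndex_mul_index (inf_le_right : X ⊓ Y ≤ Y), Subgroup.inf_relIndex_right] at h1
    exact hcop.dvd_of_dvd_mul_right h1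
  have hsub : EightAuto.orb Y x ⊆ EightAuto.orb ⊤ x := by
    rintro z ⟨n, -, rfl⟩
    exact ⟨n, Subgroup.mem_top n, rfl⟩
  have hpos : X.relIndex Y ≠ 0 := Subgroup.index_ne_zero_of_finite
  have heq := Set.eq_of_subset_of_ncard_le hsub (by
    rw [EightAuto.ncard_orb, EightAuto.ncard_orb, Subgroup.relIndex_top_right]
    exact Nat.le_of_dvd (Nat.pos_of_ne_zero hpos) hrel) (Set.toFinite _)
  have hall : ∀ g : G, g * x * g⁻¹ ∈ Y := by
    intro g
    obtain ⟨n, hn, hnx⟩ : g * x * g⁻¹ ∈ EightAuto.orb Y x := heq ▸ ⟨g, Subgroup.mem_top g, rfl⟩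
    rw [← hnx]
    exact Y.mul_mem (Y.mul_mem hn hxy) (Y.inv_mem hn)
  have hN : Subgroup.normalClosure ({x} : Set G) ≤ Y := by
    rw [Subgroup.normalClosure, Subgroup.closure_le]
    intro z hz
    obtain ⟨a, ha, hc⟩ := Group.mem_conjugatesOfSet_iff.1 hz
    obtain ⟨g, hg⟩ := isConj_iff.1 hc
    rw [Set.mem_singleton_iff] at ha
    rw [← hg, ha]
    exact hall g
  rcases IsSimpleGroup.eq_bot_or_eq_top_of_normal (Subgroup.normalClosure ({x} : Set G))
    inferInstance with h | h
  · exact hx (Subgroup.mem_bot.1 (h ▸ Subgroup.subset_normalClosure (Set.mem_singleton x)))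
  · exact cen_ne_top hG hy (top_le_iff.1 (h ▸ hN))

/-- An element of the normalizer whose order is prime to the index of the subgroup lies in it. -/
theorem mem_of_normalizer {A : Subgroup G} {v : G}
    (hv : v ∈ Subgroup.normalizer (A : Set G))
    (hcop : (orderOf v).Coprime (A.relIndex (Subgroup.normalizer (A : Set G)))) : v ∈ A := by
  have h := orderOf_dvd_natCard
    ((⟨v, hv⟩ : Subgroup.normalizer (A : Set G)) :
      Subgroup.normalizer (A : Set G) ⧸ A.subgroupOf (Subgroup.normalizer (A : Set G)))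
  have h2 : orderOf ((⟨v, hv⟩ : Subgroup.normalizer (A : Set G)) :
      Subgroup.normalizer (A : Set G) ⧸ A.subgroupOf (Subgroup.normalizer (A : Set G))) ∣
        orderOf v := by
    refine orderOf_dvd_of_pow_eq_one ?_
    rw [← QuotientGroup.mk_pow, QuotientGroup.eq_one_iff, Subgroup.mem_subgroupOf]
    simp [pow_orderOf_eq_one]
  have h1 := Nat.eq_one_of_dvd_coprimes hcop h2 h
  rw [orderOf_eq_one_iff, QuotientGroup.eq_one_iff, Subgroup.mem_subgroupOf] at h1
  exact h1

/-- The non-identity elements conjugate into `H`. -/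
def conjU (H : Subgroup G) : Set G := {y | y ≠ 1 ∧ ∃ g : G, g⁻¹ * y * g ∈ H}

theorem ncard_conjU (H : Subgroup G)
    (hTI : ∀ g : G, g ∉ Subgroup.normalizer (H : Set G) → ∀ y ∈ H, g⁻¹ * y * g ∈ H → y = 1) :
    (conjU H).ncard = (Subgroup.normalizer (H : Set G)).index * (Nat.card H - 1) := by
  set N := Subgroup.normalizer (H : Set G) with hN
  let f : (G ⧸ N) × {y : G // y ∈ (H : Set G) \ {1}} → conjU H := fun p =>
    ⟨p.1.out * p.2.1 * p.1.out⁻¹, conj_ne_one (fun e => p.2.2.2 e), p.1.out, by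
      simpa [mul_assoc] using p.2.2.1⟩
  have hf : Function.Bijective f := by
    constructor
    · rintro ⟨q, y, hy, hy1⟩ ⟨r, z, hz, hz1⟩ h
      have h' : q.out * y * q.out⁻¹ = r.out * z * r.out⁻¹ := congrArg Subtype.val h
      have hc : (q.out⁻¹ * r.out)⁻¹ * y * (q.out⁻¹ * r.out) = z := by
        calc _ = r.out⁻¹ * (q.out * y * q.out⁻¹) * r.out := by group
          _ = _ := by rw [h']; group
      have hm : q.out⁻¹ * r.out ∈ N := by
        by_contra hcon
        exact hy1 (hTI _ hcon y hy (by rw [hc]; exact hz))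
      have hqr : q = r := by
        rw [← QuotientGroup.out_eq' q, ← QuotientGroup.out_eq' r]
        exact QuotientGroup.eq.mpr hm
      subst hqr
      have : y = z := by simpa using hc
      subst this
      rfl
    · rintro ⟨x, hx1, g, hg⟩
      obtain ⟨h0, hh0⟩ := QuotientGroup.mk_out_eq_mul N g
      have hyH : (g * h0)⁻¹ * x * (g * h0) ∈ H := by
        have h2 : (h0 : G)⁻¹ * (g⁻¹ * x * g) * h0 ∈ H :=
          (Subgroup.mem_normalizer_iff''.1 h0.2 _).1 hg
        convert h2 using 1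
        group
      refine ⟨((g : G ⧸ N), ⟨(g * h0)⁻¹ * x * (g * h0), hyH, fun e => hx1 ?_⟩), Subtype.ext ?_⟩
      · rw [Set.mem_singleton_iff] at e
        calc x = (g * h0) * ((g * h0)⁻¹ * x * (g * h0)) * (g * h0)⁻¹ := by group
          _ = 1 := by rw [e]; group
      · simp only [f, hh0]
        group
  have h := Nat.card_eq_of_bijective f hf
  rw [Nat.card_prod, ← Subgroup.index, Nat.card_coe_set_eq] at h
  rw [← Nat.card_coe_set_eq (conjU H), ← h]
  congr 1
  exact (Set.ncard_sdiff_singleton_of_mem (one_mem H)).trans rfl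

theorem conjU_subset (H : Subgroup G) : conjU H ⊆ {1}ᶜ := fun _ h => h.1

theorem ncard_compl_one : ({1}ᶜ : Set G).ncard = Nat.card G - 1 := by
  rw [Set.ncard_compl, Set.ncard_singleton]

section CC

variable {A : Subgroup G}
  (hCC : ∀ x ∈ A, x ≠ 1 → Subgroup.centralizer ({x} : Set G) = A)

include hCC

theorem cc_comm : IsMulCommutative A := by
  refine ⟨⟨fun a b => Subtype.ext ?_⟩⟩
  by_cases ha : (a : G) = 1
  · simp [ha]
  · have hb : (b : G) ∈ Subgroup.centralizer ({(a : G)} : Set G) := by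
      rw [hCC _ a.2 ha]; exact b.2
    exact mem_cen.1 hb

theorem cc_ti {g y : G} (hg : g ∉ Subgroup.normalizer (A : Set G)) (hy : y ∈ A)
    (h : g⁻¹ * y * g ∈ A) : y = 1 := by
  by_contra hy1
  apply hg
  have h1 : g⁻¹ * y * g ≠ 1 := fun e => hy1 (by
    calc y = g * (g⁻¹ * y * g) * g⁻¹ := by group
      _ = 1 := by rw [e]; group)
  rw [Subgroup.mem_normalizer_iff'']
  intro z
  conv_lhs => rw [← hCC y hy hy1, mem_cen]
  conv_rhs => rw [← hCC _ h h1, mem_cen]
  constructor
  · intro e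
    calc g⁻¹ * y * g * (g⁻¹ * z * g) = g⁻¹ * (y * z) * g := by group
      _ = g⁻¹ * (z * y) * g := by rw [e]
      _ = _ := by group
  · intro e
    calc y * z = g * (g⁻¹ * y * g * (g⁻¹ * z * g)) * g⁻¹ := by group
      _ = g * (g⁻¹ * z * g * (g⁻¹ * y * g)) * g⁻¹ := by rw [e]
      _ = _ := by group

theorem cn_of_conjU {y : G} (hy : y ∈ conjU A) : cn y = Nat.card A := by
  obtain ⟨hy1, g, hg⟩ := hy
  have h1 : g⁻¹ * y * g ≠ 1 := fun e => hy1 (by
    calc y = g * (g⁻¹ * y * g) * g⁻¹ := by group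
      _ = 1 := by rw [e]; group)
  have e : y = g * (g⁻¹ * y * g) * g⁻¹ := by group
  rw [e, cn_conj, cn, hCC _ hg h1]

theorem mem_conjU_of_dvd {p : ℕ} (hp : p.Prime) (hpA : ¬ p ∣ A.index) {y : G}
    (hpy : p ∣ orderOf y) : y ∈ conjU A := by
  obtain ⟨k, hk, hk1⟩ := exists_pow_of_dvd hp hpy
  obtain ⟨g, hg⟩ := exists_conj_mem hp hpA hk
  refine ⟨fun e => ?_, g⁻¹, ?_⟩
  · rw [e, orderOf_one] at hpy
    exact hp.not_dvd_one hpy
  rw [inv_inv, ← hCC _ hg (conj_ne_one hk1), mem_cen_conj]
  have h : y ∈ Subgroup.centralizer ({y ^ k} : Set G) := cen_le_pow y k (mem_self y)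
  convert h using 1
  group

end CC

end Cfsg.Agent.Lib.Inv59.RankThree
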