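import Mathlib
import Cfsg.Agent.Lib.Blocks.Orthogonality
import Cfsg.Agent.Lib.BrauerMap.PrincipalSection
import Cfsg.Agent.Lib.Characters.Linear
import Cfsg.Agent.Lib.Induced.Burnside

/-!
# A class whose size is the order of an abelian CC Hall subgroup

In a simple group each element of such a class commutes with exactly one member of each such class.
-/

set_option autoImplicit false
set_option linter.style.haveILetI false

namespace Cfsg.Agent.Lib.Inv59.RankThree

open Cfsg Cfsg.Agent.Lib.Characters.Basic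
open scoped ComplexConjugate Classical

universe u

variable {G : Type u} [Group G] [Fintype G]

/-- Burnside's lemma in a simple group. -/
theorem vanish [IsSimpleGroup G] (hG : ¬ IsMulCommutative G) {g : G} (hg : g ≠ 1)
    (χ : Cfsg.IrrCharacter G) (hχ : χ ≠ oneChar G) {n : ℕ} (hn : (χ : G → ℂ) 1 = n)
    (hcop : Nat.Coprime n (Subgroup.centralizer ({g} : Set G)).index) : (χ : G → ℂ) g = 0 := by
  obtain ⟨d, ρ, hρ, hchar⟩ := exists_rep χ
  have hd : Module.finrank ℂ (Fin d → ℂ) = n := by
    rw [← hchar, Representation.char_one] at hn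
    exact_mod_cast hn
  rw [← hchar]
  refine (Induced.Integral.zero_or_norm_eq_of_coprime ρ g (hd ▸ hcop)).resolve_right fun hnorm => ?_
  obtain ⟨c, hc⟩ := Induced.Integral.scalar_of_norm_character_eq ρ hnorm
  rcases (inferInstance : (MonoidHom.ker ρ).Normal).eq_bot_or_eq_top with hker | hker
  · have hcen : g ∈ Subgroup.center G := by
      refine Subgroup.mem_center_iff.mpr fun y => ?_
      apply (MonoidHom.ker_eq_bot_iff ρ).mp hker
      rw [map_mul, map_mul, hc]
      ext v
      simp
    rcases IsSimpleGroup.eq_bot_or_eq_top_of_normal (Subgroup.center G) inferInstance with h | h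
    · exact hg (Subgroup.mem_bot.1 (h ▸ hcen))
    · exact hG ⟨⟨fun a b => Subgroup.mem_center_iff.1 (h ▸ Subgroup.mem_top b) a⟩⟩
  · have hρ1 : ∀ x : G, ρ x = 1 := fun x =>
      (MonoidHom.mem_ker (f := ρ)).mp (hker ▸ Subgroup.mem_top x)
    have hconst : ∀ x, (χ : G → ℂ) x = (χ : G → ℂ) 1 := fun x => by
      rw [← hchar, Representation.character, hρ1, Representation.character, hρ1]
    have h0 := classInner_irr_of_ne hχ
    simp only [Cfsg.classInner, hconst, oneChar_apply, map_one, mul_one, Finset.sum_const,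
      Finset.card_univ, ← Nat.card_eq_fintype_card, nsmul_eq_mul] at h0
    rw [← mul_assoc, inv_mul_cancel₀ (Nat.cast_ne_zero.2 Nat.card_pos.ne'), one_mul] at h0
    exact apply_one_ne_zero χ h0

/-- The fixed point count of `g` on the cosets of `H`, times the order of `H`. -/
noncomputable def conjCount (H : Subgroup G) (g : G) : ℕ :=
  (Finset.univ.filter fun v : G => v⁻¹ * g * v ∈ H).card

theorem perm_char (H : Subgroup G) [Fintype H] [Fintype (Cfsg.IrrCharacter G)] (g : G) :
    (Nat.card H : ℂ) * ∑ χ : Cfsg.IrrCharacter G,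
      Cfsg.classInner (fun h : H => (χ : G → ℂ) h) (fun _ => 1) * (χ : G → ℂ) g =
      (conjCount H g : ℂ) := by
  have hH0 : (Nat.card H : ℂ) ≠ 0 := Nat.cast_ne_zero.2 Nat.card_pos.ne'
  simp only [Cfsg.classInner, map_one, mul_one, Finset.sum_mul, Finset.mul_sum, ← mul_assoc,
    mul_inv_cancel₀ hH0, one_mul]
  rw [Finset.sum_comm]
  have e : ∀ h : H, ∑ χ : Cfsg.IrrCharacter G, (χ : G → ℂ) h * (χ : G → ℂ) g =
      ∑ v : G, if g = v * (h : G)⁻¹ * v⁻¹ then (1 : ℂ) else 0 := fun h => by
    rw [← BrauerMap.PrincipalSection.sum_irr_mul_inv g (h : G)⁻¹]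
    refine Finset.sum_congr rfl fun χ _ => ?_
    rw [inv_inv, mul_comm]
  rw [Finset.sum_congr rfl fun h _ => e h, Finset.sum_comm, conjCount, Finset.card_filter,
    Nat.cast_sum]
  refine Finset.sum_congr rfl fun v _ => ?_
  by_cases hv : v⁻¹ * g * v ∈ H
  · rw [if_pos hv, Finset.sum_eq_single (⟨v⁻¹ * g * v, hv⟩ : H)⁻¹]
    · rw [if_pos (by push_cast; group), Nat.cast_one]
    · intro h _ hne
      refine if_neg fun e => hne ?_
      apply Subtype.ext
      show (h : G) = (v⁻¹ * g * v)⁻¹
      rw [e]
      group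
    · exact fun h => absurd (Finset.mem_univ _) h
  · rw [if_neg hv, Nat.cast_zero]
    refine Finset.sum_eq_zero fun h _ => if_neg fun e => hv ?_
    have : v⁻¹ * g * v = ((h : G))⁻¹ := by rw [e]; group
    rw [this]
    exact inv_mem h.2

/-- The irreducible character `λ` composed with conjugation by a normalizing element. -/
noncomputable def act (B : Subgroup G) (v : Subgroup.normalizer (B : Set G))
    (l : Cfsg.IrrCharacter B) : Cfsg.IrrCharacter B :=
  ⟨fun y => (l : B → ℂ) ⟨(v : G) * y * (v : G)⁻¹, (Subgroup.mem_normalizer_iff.1 v.2 y).1 y.2⟩,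
    isIrrCharacter_comp
      { toFun := fun y : B => (⟨(v : G) * y * (v : G)⁻¹,
          (Subgroup.mem_normalizer_iff.1 v.2 y).1 y.2⟩ : B)
        map_one' := Subtype.ext (by simp)
        map_mul' := fun a b => Subtype.ext (by simp [mul_assoc]) }
      (fun y => ⟨⟨(v : G)⁻¹ * y * v, (Subgroup.mem_normalizer_iff''.1 v.2 y).1 y.2⟩,
        Subtype.ext (by
          show (v : G) * ((v : G)⁻¹ * y * v) * (v : G)⁻¹ = y
          group)⟩) l.2⟩

theorem act_apply (B : Subgroup G) (v : Subgroup.normalizer (B : Set G))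
    (l : Cfsg.IrrCharacter B) (y : B) :
    (act B v l : B → ℂ) y =
      (l : B → ℂ) ⟨(v : G) * y * (v : G)⁻¹, (Subgroup.mem_normalizer_iff.1 v.2 y).1 y.2⟩ := rfl

theorem act_act (B : Subgroup G) (v w : Subgroup.normalizer (B : Set G))
    (l : Cfsg.IrrCharacter B) : act B w (act B v l) = act B (v * w) l := by
  apply Subtype.ext
  funext y
  rw [act_apply, act_apply, act_apply]
  exact congrArg _ (Subtype.ext (by simp [mul_assoc]))

theorem act_one (B : Subgroup G) (l : Cfsg.IrrCharacter B) : act B 1 l = l := by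
  apply Subtype.ext
  funext y
  rw [act_apply]
  exact congrArg _ (Subtype.ext (by simp))

/-- Elements of the normalizer fixing a nontrivial linear character of a CC subgroup lie in it. -/
theorem mem_of_act_eq (B : Subgroup G) (hab : ∀ a b : B, a * b = b * a)
    (hCC : ∀ β ∈ B, β ≠ 1 → Subgroup.centralizer ({β} : Set G) = B)
    (v : Subgroup.normalizer (B : Set G)) (l : Cfsg.IrrCharacter B) (hl : l ≠ oneChar B)
    (h : act B v l = l) : (v : G) ∈ B := by
  by_contra hv
  apply hl
  have h1 : (l : B → ℂ) 1 = 1 := Characters.Linear.degree_eq_one_of_comm hab l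
  set f : B →* B :=
    { toFun := fun y => (⟨(v : G) * y * (v : G)⁻¹,
        (Subgroup.mem_normalizer_iff.1 v.2 y).1 y.2⟩ : B) * y⁻¹
      map_one' := Subtype.ext (by simp)
      map_mul' := fun a b => by
        rw [show (⟨(v : G) * ((a * b : B) : G) * (v : G)⁻¹,
            (Subgroup.mem_normalizer_iff.1 v.2 _).1 (a * b).2⟩ : B) =
          ⟨(v : G) * a * (v : G)⁻¹, (Subgroup.mem_normalizer_iff.1 v.2 a).1 a.2⟩ *
          ⟨(v : G) * b * (v : G)⁻¹, (Subgroup.mem_normalizer_iff.1 v.2 b).1 b.2⟩ from
          Subtype.ext (by simp [mul_assoc]), mul_inv_rev]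
        rw [hab b⁻¹ a⁻¹]
        simp only [mul_assoc]
        congr 1
        rw [← mul_assoc, hab _ a⁻¹, mul_assoc] } with hf
  have hfinj : Function.Injective f := by
    rw [injective_iff_map_eq_one]
    intro y hy
    by_contra hy1
    apply hv
    have hB := hCC (y : G) y.2 (fun e => hy1 (Subtype.ext e))
    have h2 := congrArg Subtype.val (mul_inv_eq_one.1 (show _ * y⁻¹ = 1 from hy))
    have hm : (v : G) ∈ Subgroup.centralizer ({(y : G)} : Set G) :=
      Subgroup.mem_centralizer_singleton_iff.2 (mul_inv_eq_iff_eq_mul.1 h2)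
    rw [hB] at hm
    exact hm
  apply Subtype.ext
  funext y
  obtain ⟨z, rfl⟩ := Finite.surjective_of_injective hfinj y
  rw [oneChar_apply]
  show (l : B → ℂ) (_ * z⁻¹) = 1
  have hmul := Characters.Linear.apply_mul_of_degree_one (isCharacter_irr l) h1
  have e : (l : B → ℂ) ⟨(v : G) * z * (v : G)⁻¹, (Subgroup.mem_normalizer_iff.1 v.2 z).1 z.2⟩ =
      (l : B → ℂ) z := by rw [← act_apply, h]
  rw [hmul, e, ← hmul, mul_inv_cancel, h1]

variable [Fintype (Cfsg.IrrCharacter G)]

/-- The multiplicity of a character of `B` in the restriction of a character of `G`. -/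
noncomputable def mult (B : Subgroup G) [Fintype B] (χ : Cfsg.IrrCharacter G)
    (l : Cfsg.IrrCharacter B) : ℂ :=
  Cfsg.classInner (fun y : B => (χ : G → ℂ) y) (l : B → ℂ)

theorem mult_nat (B : Subgroup G) [Fintype B] (χ : Cfsg.IrrCharacter G) (l : Cfsg.IrrCharacter B) :
    ∃ k : ℕ, mult B χ l = k :=
  exists_classInner_nat (isCharacter_comp B.subtype (isCharacter_irr χ)) (isCharacter_irr l)

omit [Fintype (Cfsg.IrrCharacter G)] in
theorem mult_act (B : Subgroup G) [Fintype B] (χ : Cfsg.IrrCharacter G)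
    (v : Subgroup.normalizer (B : Set G)) (l : Cfsg.IrrCharacter B) :
    mult B χ (act B v l) = mult B χ l := by
  simp only [mult, Cfsg.classInner, act_apply]
  congr 1
  refine Fintype.sum_bijective
    (fun y : B => (⟨(v : G) * y * (v : G)⁻¹, (Subgroup.mem_normalizer_iff.1 v.2 y).1 y.2⟩ : B))
    ?_ _ _ fun y => ?_
  · refine (Finite.injective_iff_bijective).1 fun a b h => Subtype.ext ?_
    simpa using congrArg Subtype.val h
  · show _ = (χ : G → ℂ) ((v : G) * y * (v : G)⁻¹) * _
    rw [isClassFunction_irr χ (y : G) (v : G)]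

/-- The orbit relation on the characters of `B`. -/
def Rel (B : Subgroup G) (l l' : Cfsg.IrrCharacter B) : Prop :=
  ∃ v : Subgroup.normalizer (B : Set G), act B v l = l'

/-- The isometry on differences. -/
theorem gram (B : Subgroup G) [Fintype B] (hab : ∀ a b : B, a * b = b * a)
    (hCC : ∀ β ∈ B, β ≠ 1 → Subgroup.centralizer ({β} : Set G) = B)
    (l μ l' μ' : Cfsg.IrrCharacter B) (hl : l ≠ oneChar B) (hμ : μ ≠ oneChar B) :
    ∑ χ : Cfsg.IrrCharacter G, (mult B χ l - mult B χ μ) * (mult B χ l' - mult B χ μ') =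
      (if Rel B l l' then 1 else 0) - (if Rel B l μ' then 1 else 0)
        - (if Rel B μ l' then 1 else 0) + (if Rel B μ μ' then 1 else 0) := by
  have h1 : ∀ m : Cfsg.IrrCharacter B, (m : B → ℂ) 1 = 1 :=
    fun m => Characters.Linear.degree_eq_one_of_comm hab m
  set N := Subgroup.normalizer (B : Set G) with hN
  haveI := Fintype.ofFinite N
  have hb0 : (Nat.card B : ℂ) ≠ 0 := Nat.cast_ne_zero.2 Nat.card_pos.ne'
  have hconj : ∀ χ : Cfsg.IrrCharacter G, ∀ m m' : Cfsg.IrrCharacter B,
      mult B χ m - mult B χ m' = conj (mult B χ m - mult B χ m') := fun χ m m' => by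
    obtain ⟨i, hi⟩ := mult_nat B χ m
    obtain ⟨j, hj⟩ := mult_nat B χ m'
    rw [hi, hj, map_sub, map_natCast, map_natCast]
  have hexp : ∀ χ : Cfsg.IrrCharacter G, ∀ m m' : Cfsg.IrrCharacter B,
      mult B χ m - mult B χ m' = (Nat.card B : ℂ)⁻¹ *
        ∑ y : B, (χ : G → ℂ) y * conj ((m : B → ℂ) y - (m' : B → ℂ) y) := fun χ m m' => by
    simp only [mult, Cfsg.classInner, ← mul_sub, ← Finset.sum_sub_distrib, map_sub]
  have key : ∑ χ : Cfsg.IrrCharacter G, (mult B χ l - mult B χ μ) * (mult B χ l' - mult B χ μ') =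
      (Nat.card B : ℂ)⁻¹ * ∑ v : N, Cfsg.classInner
        ((l' : B → ℂ) - (μ' : B → ℂ)) ((act B v l : B → ℂ) - (act B v μ : B → ℂ)) := by
    calc _ = ∑ χ : Cfsg.IrrCharacter G, (Nat.card B : ℂ)⁻¹ * (Nat.card B : ℂ)⁻¹ *
          ∑ y : B, ∑ z : B, conj ((l : B → ℂ) y - (μ : B → ℂ) y) * ((l' : B → ℂ) z - (μ' : B → ℂ) z) *
            ((χ : G → ℂ) y * (χ : G → ℂ) (z : G)⁻¹) := by
          refine Finset.sum_congr rfl fun χ _ => ?_
          rw [hexp χ l μ, hconj χ l' μ', hexp χ l' μ']
          simp only [map_mul, map_inv₀, map_natCast, map_sum, Complex.conj_conj,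
            ← apply_inv (isCharacter_irr χ), Finset.mul_sum, Finset.sum_mul]
          rw [Finset.sum_comm]
          refine (Finset.sum_congr rfl fun y _ => Finset.sum_congr rfl fun z _ => ?_)
          ring
      _ = (Nat.card B : ℂ)⁻¹ * (Nat.card B : ℂ)⁻¹ *
          ∑ y : B, ∑ z : B, conj ((l : B → ℂ) y - (μ : B → ℂ) y) * ((l' : B → ℂ) z - (μ' : B → ℂ) z) *
            ∑ v : G, if (y : G) = v * (z : G) * v⁻¹ then (1 : ℂ) else 0 := by
          rw [← Finset.mul_sum, Finset.sum_comm]
          refine congrArg _ (Finset.sum_congr rfl fun y _ => ?_)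
          rw [Finset.sum_comm]
          refine Finset.sum_congr rfl fun z _ => ?_
          rw [← Finset.mul_sum, BrauerMap.PrincipalSection.sum_irr_mul_inv]
      _ = (Nat.card B : ℂ)⁻¹ * (Nat.card B : ℂ)⁻¹ *
          ∑ v : N, ∑ z : B, ((l' : B → ℂ) z - (μ' : B → ℂ) z) *
            conj ((act B v l : B → ℂ) z - (act B v μ : B → ℂ) z) := by
          congr 1
          simp only [Finset.mul_sum, mul_ite, mul_one, mul_zero]
          rw [Finset.sum_comm, Finset.sum_comm (s := (Finset.univ : Finset N))]
          refine Finset.sum_congr rfl fun z _ => ?_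
          rw [Finset.sum_comm]
          by_cases hz : z = 1
          · subst hz
            simp [h1]
          refine (Finset.sum_of_injOn (fun v : N => (v : G)) (fun a _ b _ e => Subtype.ext e)
            (fun _ _ => Finset.mem_univ _) (fun v _ hv => ?_) (fun v _ => ?_)).symm
          · refine Finset.sum_eq_zero fun y _ => if_neg fun e => hv ?_
            refine ⟨⟨v, ?_⟩, Finset.mem_univ _, rfl⟩
            have hz' : (z : G) ≠ 1 := fun e => hz (Subtype.ext e)
            have hy' : (y : G) ≠ 1 := fun e' => hz' (by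
              rw [e'] at e
              simpa using e.symm)
            have hB := hCC _ y.2 hy'
            have hB' := hCC _ z.2 hz'
            rw [hN, Subgroup.mem_normalizer_iff]
            intro b
            conv_lhs => rw [← hB', Subgroup.mem_centralizer_singleton_iff]
            conv_rhs => rw [← hB, Subgroup.mem_centralizer_singleton_iff, e]
            constructor
            · intro hb
              calc v * b * v⁻¹ * (v * z * v⁻¹) = v * (b * z) * v⁻¹ := by group
                _ = v * (z * b) * v⁻¹ := by rw [hb]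
                _ = v * z * v⁻¹ * (v * b * v⁻¹) := by group
            · intro hb
              calc b * (z : G) = v⁻¹ * (v * b * v⁻¹ * (v * z * v⁻¹)) * v := by group
                _ = v⁻¹ * (v * z * v⁻¹ * (v * b * v⁻¹)) * v := by rw [hb]
                _ = z * b := by group
          · rw [Finset.sum_eq_single (⟨(v : G) * z * (v : G)⁻¹,
              (Subgroup.mem_normalizer_iff.1 v.2 z).1 z.2⟩ : B)]
            · rw [if_pos rfl, act_apply, act_apply]
              ring
            · exact fun y _ hy => if_neg fun e => hy (Subtype.ext e)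
            · exact fun h => absurd (Finset.mem_univ _) h
      _ = _ := by
          rw [mul_assoc]
          congr 1
          rw [Finset.mul_sum]
          refine Finset.sum_congr rfl fun v _ => ?_
          rw [Cfsg.classInner]
          rfl
  have hinner : ∀ m m' n n' : Cfsg.IrrCharacter B,
      Cfsg.classInner ((m : B → ℂ) - (m' : B → ℂ)) ((n : B → ℂ) - (n' : B → ℂ)) =
        (if m = n then 1 else 0) - (if m = n' then 1 else 0)
          - (if m' = n then 1 else 0) + (if m' = n' then 1 else 0) := by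
    intro m m' n n'
    rw [← classInner_irr m n, ← classInner_irr m n', ← classInner_irr m' n, ← classInner_irr m' n']
    simp only [Cfsg.classInner, Pi.sub_apply, map_sub, sub_mul, mul_sub, Finset.sum_sub_distrib]
    ring
  have hfib : ∀ (m : Cfsg.IrrCharacter B) (n : Cfsg.IrrCharacter B), m ≠ oneChar B →
      (∑ v : N, if n = act B v m then (1 : ℂ) else 0) =
        (Nat.card B : ℂ) * (if Rel B m n then 1 else 0) := by
    intro m n hm
    split_ifs with hr
    · obtain ⟨v₀, rfl⟩ := hr
      rw [mul_one, Finset.sum_boole, Nat.card_eq_fintype_card, Nat.cast_inj, ← Finset.card_univ]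
      refine Finset.card_bij' (fun v hvm => (⟨((v * v₀⁻¹ : N) : G), ?_⟩ : B))
        (fun b _ => (⟨(b : G), Subgroup.le_normalizer b.2⟩ : N) * v₀) (fun _ _ => Finset.mem_univ _)
        (fun b _ => ?_) (fun v _ => ?_) (fun b _ => ?_)
      · have hv : act B v₀ m = act B v m := (Finset.mem_filter.1 hvm).2
        refine mem_of_act_eq B hab hCC (v * v₀⁻¹) m hm ?_
        rw [← act_act, ← hv, act_act, mul_inv_cancel, act_one]
      · refine Finset.mem_filter.2 ⟨Finset.mem_univ _, ?_⟩
        rw [← act_act]
        congr 1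
        apply Subtype.ext
        funext y
        rw [act_apply]
        refine congrArg _ (Subtype.ext ?_)
        show (y : G) = (b : G) * y * (b : G)⁻¹
        have := congrArg Subtype.val (hab b y)
        push_cast at this
        rw [this, mul_inv_cancel_right]
      · apply Subtype.ext
        simp
      · apply Subtype.ext
        simp
    · rw [mul_zero]
      exact Finset.sum_eq_zero fun v _ => if_neg fun e => hr ⟨v, e.symm⟩
  rw [key]
  simp only [hinner, Finset.sum_add_distrib, Finset.sum_sub_distrib]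
  rw [hfib l l' hl, hfib μ l' hμ, hfib l μ' hl, hfib μ μ' hμ]
  field_simp
  ring

/-- An element of such a class commutes with only one member of each such class. -/
theorem unique_commuting [IsSimpleGroup G] (hG : ¬ IsMulCommutative G) (B : Subgroup G)
    (hab : IsMulCommutative B)
    (hCC : ∀ β ∈ B, β ≠ 1 → Subgroup.centralizer ({β} : Set G) = B)
    (hcop : Nat.Coprime (Nat.card B) B.index) {x d : G} (hx : x ≠ 1)
    (hxc : (Subgroup.centralizer ({x} : Set G)).index = Nat.card B)
    (hdc : (Subgroup.centralizer ({d} : Set G)).index = Nat.card B) {v w : G}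
    (hv : Commute x (v * d * v⁻¹)) (hw : Commute x (w * d * w⁻¹)) :
    v * d * v⁻¹ = w * d * w⁻¹ := by
  haveI := Fintype.ofFinite B
  set H := Subgroup.centralizer ({d} : Set G) with hH
  haveI := Fintype.ofFinite H
  haveI : Fintype (Cfsg.IrrCharacter B) := Fintype.ofFinite _
  have hab' : ∀ a b : B, a * b = b * a := hab.is_comm.comm
  have hl1 : ∀ m : Cfsg.IrrCharacter B, (m : B → ℂ) 1 = 1 :=
    fun m => Characters.Linear.degree_eq_one_of_comm hab' m
  have hcardH : Nat.card H = B.index := by
    have h1 := H.card_mul_index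
    rw [hdc, ← B.card_mul_index, mul_comm (Nat.card B)] at h1
    exact Nat.eq_of_mul_eq_mul_right Nat.card_pos h1
  choose m hm using fun χ : Cfsg.IrrCharacter G => exists_classInner_nat
    (isCharacter_comp H.subtype (isCharacter_irr χ)) (isCharacter_one (G := H))
  choose M hM using fun (χ : Cfsg.IrrCharacter G) (l : Cfsg.IrrCharacter B) => mult_nat B χ l
  have hperm : ∀ g : G, (Nat.card H : ℂ) * ∑ χ, (m χ : ℂ) * (χ : G → ℂ) g = conjCount H g := by
    intro g
    rw [← perm_char H g]
    simp only [← hm]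
    rfl
  have hB0 : ∀ y : B, y ≠ 1 → conjCount H (y : G) = 0 := by
    intro y hy
    rw [conjCount, Finset.card_eq_zero, Finset.filter_eq_empty_iff]
    intro z _ hz
    apply hy
    have h1 : orderOf (z⁻¹ * y * z) ∣ Nat.card H := by
      have := orderOf_dvd_natCard (⟨_, hz⟩ : H)
      rwa [Subgroup.orderOf_mk] at this
    have h2 : orderOf (z⁻¹ * (y : G) * z) = orderOf (y : G) := by
      have := (MulAut.conj z⁻¹).orderOf_eq (y : G)
      simpa [MulAut.conj_apply] using this
    have h3 : orderOf (y : G) ∣ Nat.card B := by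
      rw [Subgroup.orderOf_coe]; exact orderOf_dvd_natCard y
    rw [h2, hcardH] at h1
    exact Subtype.ext (orderOf_eq_one_iff.1 (Nat.eq_one_of_dvd_coprimes hcop h3 h1))
  have hc1 : conjCount H (1 : G) = Nat.card G := by
    rw [conjCount, Nat.card_eq_fintype_card, ← Finset.card_univ]
    congr 1
    exact Finset.filter_true_of_mem fun z _ => by simp
  -- each character of `B` occurs once
  have honce : ∀ l : Cfsg.IrrCharacter B, ∑ χ, m χ * M χ l = 1 := by
    intro l
    have hb0 : (Nat.card B : ℂ) ≠ 0 := Nat.cast_ne_zero.2 Nat.card_pos.ne'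
    have hH0 : (Nat.card H : ℂ) ≠ 0 := Nat.cast_ne_zero.2 Nat.card_pos.ne'
    have h : ((∑ χ, m χ * M χ l : ℕ) : ℂ) = 1 := by
      push_cast
      simp only [← hM, mult, Cfsg.classInner, Finset.mul_sum]
      rw [Finset.sum_comm, Finset.sum_eq_single (1 : B)]
      · apply mul_left_cancel₀ hH0
        rw [OneMemClass.coe_one, hl1, map_one, mul_one]
        calc (Nat.card H : ℂ) * ∑ χ : Cfsg.IrrCharacter G, (m χ : ℂ) * ((Nat.card B : ℂ)⁻¹ * ((χ : G → ℂ) 1 * 1))
            = (Nat.card B : ℂ)⁻¹ * ((Nat.card H : ℂ) * ∑ χ, (m χ : ℂ) * (χ : G → ℂ) 1) := by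
              simp only [Finset.mul_sum]
              exact Finset.sum_congr rfl fun χ _ => by ring
          _ = _ := by
              rw [hperm, hc1, hcardH, ← B.card_mul_index]
              push_cast
              field_simp
      · intro y _ hy
        calc ∑ χ : Cfsg.IrrCharacter G, (m χ : ℂ) * ((Nat.card B : ℂ)⁻¹ * ((χ : G → ℂ) y * conj ((l : B → ℂ) y)))
            = (Nat.card B : ℂ)⁻¹ * conj ((l : B → ℂ) y) * ∑ χ, (m χ : ℂ) * (χ : G → ℂ) y := by
              rw [Finset.mul_sum]
              exact Finset.sum_congr rfl fun χ _ => by ring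
          _ = 0 := by
              have := hperm (y : G)
              rw [hB0 y hy, Nat.cast_zero] at this
              rw [(mul_eq_zero.1 this).resolve_left hH0, mul_zero]
      · exact fun h => absurd (Finset.mem_univ _) h
    exact_mod_cast h
  have hm1 : m (oneChar G) = 1 := by
    have h := hm (oneChar G)
    simp only [Cfsg.classInner, Function.comp_apply, oneChar_apply, Pi.one_apply, map_one, mul_one,
      Finset.sum_const, Finset.card_univ, nsmul_eq_mul, ← Nat.card_eq_fintype_card,
      inv_mul_cancel₀ (Nat.cast_ne_zero.2 Nat.card_pos.ne' : (Nat.card H : ℂ) ≠ 0)] at h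
    exact_mod_cast h.symm
  have hM1 : M (oneChar G) (oneChar B) = 1 := by
    have h := hM (oneChar G) (oneChar B)
    simp only [mult, Cfsg.classInner, oneChar_apply, map_one, mul_one,
      Finset.sum_const, Finset.card_univ, nsmul_eq_mul, ← Nat.card_eq_fintype_card,
      inv_mul_cancel₀ (Nat.cast_ne_zero.2 Nat.card_pos.ne' : (Nat.card B : ℂ) ≠ 0)] at h
    exact_mod_cast h.symm
  have htriv : ∀ χ, χ ≠ oneChar G → m χ ≠ 0 → M χ (oneChar B) = 0 := by
    intro χ hχ hmχ
    have h := honce (oneChar B)
    rw [← Finset.add_sum_erase _ _ (Finset.mem_univ (oneChar G)), hm1, hM1] at h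
    have h0 : ∑ θ ∈ Finset.univ.erase (oneChar G), m θ * M θ (oneChar B) = 0 := by omega
    rw [Finset.sum_eq_zero_iff] at h0
    exact (mul_eq_zero.1 (h0 χ (Finset.mem_erase.2 ⟨hχ, Finset.mem_univ _⟩))).resolve_left hmχ
  have hone : ∀ χ l, m χ ≠ 0 → M χ l ≠ 0 → m χ = 1 ∧ M χ l = 1 ∧
      ∀ χ', χ' ≠ χ → m χ' * M χ' l = 0 := by
    intro χ l hmχ hMl
    have h := honce l
    rw [← Finset.add_sum_erase _ _ (Finset.mem_univ χ)] at h
    have hpos : 0 < m χ * M χ l := Nat.pos_of_ne_zero (mul_ne_zero hmχ hMl)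
    have h1 : m χ * M χ l = 1 := by omega
    refine ⟨(mul_eq_one.1 h1).1, (mul_eq_one.1 h1).2, fun χ' hne => ?_⟩
    have h0 : ∑ θ ∈ Finset.univ.erase χ, m θ * M θ l = 0 := by omega
    rw [Finset.sum_eq_zero_iff] at h0
    exact h0 χ' (Finset.mem_erase.2 ⟨hne, Finset.mem_univ _⟩)
  have hdeg : ∀ χ : Cfsg.IrrCharacter G, (χ : G → ℂ) 1 = ((∑ l, M χ l : ℕ) : ℂ) := by
    intro χ
    have h := congrFun (character_eq_finsum (isCharacter_comp B.subtype (isCharacter_irr χ))) 1
    rw [finsum_eq_sum_of_fintype, Finset.sum_apply] at h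
    simp only [Function.comp_apply, map_one, Pi.smul_apply, smul_eq_mul, hl1, mul_one] at h
    push_cast
    simp only [← hM]
    exact h
  have hact : ∀ χ z l, M χ (act B z l) = M χ l := fun χ z l => by
    have h := mult_act B χ z l
    rw [hM, hM] at h
    exact_mod_cast h
  have hgood : ∀ χ, χ ≠ oneChar G → m χ ≠ 0 → Nat.Coprime (∑ l, M χ l) (Nat.card B) := by
    intro χ hχ hmχ
    by_cases hall : ∀ l, l ≠ oneChar B → M χ l ≠ 0
    · have hsum : ∑ l, M χ l = Nat.card B - 1 := by
        rw [← Finset.add_sum_erase _ _ (Finset.mem_univ (oneChar B)), htriv χ hχ hmχ, zero_add,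
          Finset.sum_congr rfl fun l hl => (hone χ l hmχ (hall l (Finset.ne_of_mem_erase hl))).2.1]
        simp only [Finset.sum_const, smul_eq_mul, mul_one,
          Finset.card_erase_of_mem (Finset.mem_univ _), Finset.card_univ]
        congr 1
        have hcount : ((Fintype.card (Cfsg.IrrCharacter B) : ℕ) : ℂ) = (Nat.card B : ℂ) := by
          have h := BrauerMap.PrincipalSection.sum_irr_mul_inv (1 : B) 1
          simp only [inv_one, hl1, mul_one, Finset.sum_const, Finset.card_univ, nsmul_eq_mul,
            mul_inv_cancel, one_mul] at h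
          rw [Nat.card_eq_fintype_card]
          simpa using h
        exact_mod_cast hcount
      rw [hsum]
      have : 0 < Nat.card B := Nat.card_pos
      exact Nat.coprime_self_sub_left (by omega) |>.2 (Nat.coprime_one_left _)
    push Not at hall
    obtain ⟨μ, hμ1, hμ⟩ := hall
    obtain ⟨χ', hχ'⟩ : ∃ χ', m χ' * M χ' μ ≠ 0 := by
      by_contra! h
      have := honce μ
      rw [Finset.sum_eq_zero fun θ _ => h θ] at this
      omega
    obtain ⟨hm', hM'⟩ := mul_ne_zero_iff.1 hχ'
    have hne' : χ' ≠ χ := fun e => hM' (e ▸ hμ)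
    by_cases hsome : ∀ l, M χ l = 0
    · have h0 := hdeg χ
      rw [Finset.sum_eq_zero fun l _ => hsome l, Nat.cast_zero] at h0
      exact absurd h0 (apply_one_ne_zero χ)
    push Not at hsome
    obtain ⟨l, hl⟩ := hsome
    have hl0 : l ≠ oneChar B := fun e => hl (e ▸ htriv χ hχ hmχ)
    have horb : ∀ l', M χ l' ≠ 0 → Rel B l l' := by
      intro l' hl'
      by_contra hrel
      have hl0' : l' ≠ oneChar B := fun e => hl' (e ▸ htriv χ hχ hmχ)
      have hvals : ∀ a, M χ a ≠ 0 →
          ((M χ a : ℤ) - M χ μ = 1) ∧ ((M χ' a : ℤ) - M χ' μ = -1) := by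
        intro a ha
        obtain ⟨-, h2, h3⟩ := hone χ a hmχ ha
        obtain ⟨-, h2', -⟩ := hone χ' μ hm' hM'
        have h3' := (mul_eq_zero.1 (h3 χ' hne')).resolve_left hm'
        rw [h2, hμ, h3', h2']
        simp
      have hrμ : ∀ a, M χ a ≠ 0 → ¬ Rel B a μ ∧ ¬ Rel B μ a := by
        intro a ha
        refine ⟨?_, ?_⟩
        · rintro ⟨z, rfl⟩
          exact ha (hact χ z a ▸ hμ)
        · rintro ⟨z, rfl⟩
          exact ha ((hact χ z μ).trans hμ)
      have hrefl : ∀ a, Rel B a a := fun a => ⟨1, act_one B a⟩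
      have hnorm : ∀ a, M χ a ≠ 0 → a ≠ oneChar B →
          ∀ θ, θ ≠ χ → θ ≠ χ' → (M θ a : ℤ) - M θ μ = 0 := by
        intro a ha ha1 θ h1 h2
        have hg := gram (G := G) B hab' hCC a μ a μ ha1 hμ1
        rw [if_pos (hrefl a), if_neg (hrμ a ha).1, if_neg (hrμ a ha).2, if_pos (hrefl μ)] at hg
        simp only [hM] at hg
        have hg' : ∑ ζ, ((M ζ a : ℤ) - M ζ μ) * ((M ζ a : ℤ) - M ζ μ) = 2 := by
          norm_num at hg
          exact_mod_cast hg
        by_contra hθ
        have h3 : ∑ ζ ∈ ({χ, χ', θ} : Finset (Cfsg.IrrCharacter G)),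
            ((M ζ a : ℤ) - M ζ μ) * ((M ζ a : ℤ) - M ζ μ) ≤ 2 :=
          hg' ▸ Finset.sum_le_sum_of_subset_of_nonneg (Finset.subset_univ _)
            fun ζ _ _ => mul_self_nonneg _
        rw [Finset.sum_insert (by simp [Ne.symm hne', Ne.symm h1]),
          Finset.sum_insert (by simp [Ne.symm h2]), Finset.sum_singleton,
          (hvals a ha).1, (hvals a ha).2] at h3
        have : 0 < ((M θ a : ℤ) - M θ μ) * ((M θ a : ℤ) - M θ μ) := mul_self_pos.2 hθ
        omega
      have hg := gram (G := G) B hab' hCC l μ l' μ hl0 hμ1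
      rw [if_neg hrel, if_neg (hrμ l hl).1, if_neg (hrμ l' hl').2, if_pos (hrefl μ)] at hg
      simp only [hM] at hg
      have hg' : ∑ ζ, ((M ζ l : ℤ) - M ζ μ) * ((M ζ l' : ℤ) - M ζ μ) = 1 := by
        norm_num at hg
        exact_mod_cast hg
      rw [← Finset.sum_subset (Finset.subset_univ ({χ, χ'} : Finset (Cfsg.IrrCharacter G)))
        fun θ _ hθ => ?_, Finset.sum_pair (Ne.symm hne'), (hvals l hl).1, (hvals l hl).2,
        (hvals l' hl').1, (hvals l' hl').2] at hg'
      · norm_num at hg'
      · simp only [Finset.mem_insert, Finset.mem_singleton, not_or] at hθ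
        rw [hnorm l hl hl0 θ hθ.1 hθ.2, zero_mul]
    have hsum : ∑ a, M χ a = (Finset.univ.filter fun a => Rel B l a).card := by
      rw [Finset.card_filter]
      refine Finset.sum_congr rfl fun a _ => ?_
      split_ifs with hr
      · obtain ⟨z, rfl⟩ := hr
        rw [hact]
        exact (hone χ l hmχ hl).2.1
      · by_contra h
        exact hr (horb a h)
    rw [hsum]
    have hcard : (Finset.univ.filter fun a => Rel B l a).card =
        B.relIndex (Subgroup.normalizer (B : Set G)) := by
      rw [← Fintype.card_subtype, ← Nat.card_eq_fintype_card]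
      show _ = (B.subgroupOf (Subgroup.normalizer (B : Set G))).index
      rw [Subgroup.index_eq_card]
      refine (Nat.card_congr (Equiv.ofBijective
        (Quotient.lift (fun z : Subgroup.normalizer (B : Set G) =>
          (⟨act B z⁻¹ l, z⁻¹, rfl⟩ : {a // Rel B l a})) ?_) ⟨?_, ?_⟩)).symm
      · intro a b hab2
        replace hab2 := Subgroup.mem_subgroupOf.1 (QuotientGroup.leftRel_apply.1 hab2)
        apply Subtype.ext
        show act B a⁻¹ l = act B b⁻¹ l
        conv_lhs => rw [show a⁻¹ = (a⁻¹ * b) * b⁻¹ by rw [mul_inv_cancel_right], ← act_act]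
        congr 1
        apply Subtype.ext
        funext y
        rw [act_apply]
        refine congrArg _ (Subtype.ext ?_)
        have := congrArg Subtype.val (hab' ⟨_, hab2⟩ y)
        push_cast at this
        show ((a⁻¹ * b : Subgroup.normalizer (B : Set G)) : G) * y *
          ((a⁻¹ * b : Subgroup.normalizer (B : Set G)) : G)⁻¹ = y
        push_cast
        rw [this]
        group
      · rintro ⟨a⟩ ⟨b⟩ e
        apply Quotient.sound
        refine QuotientGroup.leftRel_apply.2 (Subgroup.mem_subgroupOf.2 ?_)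
        have e' : act B a⁻¹ l = act B b⁻¹ l := congrArg Subtype.val e
        refine mem_of_act_eq B hab' hCC (a⁻¹ * b) l hl0 ?_
        rw [← act_act, e', act_act, inv_mul_cancel, act_one]
      · rintro ⟨a, z, rfl⟩
        exact ⟨QuotientGroup.mk z⁻¹, Subtype.ext (by
          show act B z⁻¹⁻¹ l = act B z l
          rw [inv_inv])⟩
    rw [hcard]
    exact Nat.Coprime.coprime_dvd_left
      (Subgroup.relIndex_dvd_index_of_le Subgroup.le_normalizer) hcop.symm
  -- the permutation character at `x`
  have hfix : conjCount H x = Nat.card H := by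
    have h := hperm x
    rw [Finset.sum_eq_single (oneChar G)] at h
    · rw [hm1, Nat.cast_one, one_mul, oneChar_apply, mul_one] at h
      exact_mod_cast h.symm
    · intro χ _ hχ
      by_cases hmχ : m χ = 0
      · rw [hmχ, Nat.cast_zero, zero_mul]
      · rw [vanish hG hx χ hχ (hdeg χ) (hxc ▸ hgood χ hχ hmχ), mul_zero]
    · exact fun h => absurd (Finset.mem_univ _) h
  have hmem : ∀ z : G, Commute x (z * d * z⁻¹) → z⁻¹ * x * z ∈ H := by
    intro z hz
    rw [hH, Subgroup.mem_centralizer_singleton_iff]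
    calc z⁻¹ * x * z * d = z⁻¹ * (x * (z * d * z⁻¹)) * z := by group
      _ = z⁻¹ * (z * d * z⁻¹ * x) * z := by rw [hz.eq]
      _ = d * (z⁻¹ * x * z) := by group
  set X := Finset.univ.filter fun z : G => z⁻¹ * x * z ∈ H with hX
  have hXcard : X.card = Nat.card H := hfix
  have hsub : (Finset.univ : Finset H).image (fun h : H => v * (h : G)) ⊆ X := by
    intro z hz
    obtain ⟨h, -, rfl⟩ := Finset.mem_image.1 hz
    simp only [hX, Finset.mem_filter, Finset.mem_univ, true_and]
    have := H.mul_mem (H.mul_mem (inv_mem h.2) (hmem v hv)) h.2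
    convert this using 1
    group
  have heq := Finset.eq_of_subset_of_card_le hsub (le_of_eq (by
    rw [hXcard, Finset.card_image_of_injective _ (fun a b e => Subtype.ext (mul_left_cancel e)),
      Finset.card_univ, ← Nat.card_eq_fintype_card]))
  have hwX : w ∈ X := by
    simp only [hX, Finset.mem_filter, Finset.mem_univ, true_and]
    exact hmem w hw
  rw [← heq] at hwX
  obtain ⟨h, -, rfl⟩ := Finset.mem_image.1 hwX
  have hh : (h : G) * d = d * h := Subgroup.mem_centralizer_singleton_iff.1 h.2
  calc v * d * v⁻¹ = v * (d * h) * (h : G)⁻¹ * v⁻¹ := by group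
    _ = v * ((h : G) * d) * (h : G)⁻¹ * v⁻¹ := by rw [hh]
    _ = v * h * d * (v * h)⁻¹ := by group

end Cfsg.Agent.Lib.Inv59.RankThree
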