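import Mathlib
import Cfsg.Agent.Lib.Inv59.RankThree.Basic
import Cfsg.Agent.Lib.Inv59.RankThree.Chars

/-!
# With three centralizer orders no centralizer is properly contained in another
-/

set_option autoImplicit false
set_option linter.unusedSectionVars false

namespace Cfsg.Agent.Lib.Inv59.RankThree

open Cfsg.Agent.Lib.ClassSizes.Basic

universe u

variable {G : Type u} [Group G] [Finite G] [IsSimpleGroup G]

theorem not_prime_pow (hG : ¬ IsMulCommutative G) {x : G} (hx : x ≠ 1) {p k : ℕ} (hp : p.Prime) :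
    (Subgroup.centralizer ({x} : Set G)).index ≠ p ^ k := by
  intro h
  haveI := Fact.mk (Induced.Burnside.prime_card_of_class_primePow hp hx h)
  haveI : IsCyclic G := isCyclic_of_prime_card (p := Nat.card G) rfl
  letI := IsCyclic.commGroup (α := G)
  exact hG ⟨⟨fun a b => mul_comm a b⟩⟩

theorem exists_other_prime (hG : ¬ IsMulCommutative G) {x : G} (hx : x ≠ 1) {p : ℕ} (hp : p.Prime) :
    ∃ q, q.Prime ∧ q ∣ (Subgroup.centralizer ({x} : Set G)).index ∧ q ≠ p := by
  by_contra! h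
  exact not_prime_pow hG hx hp (Nat.eq_prime_pow_of_unique_prime_dvd
    Subgroup.index_ne_zero_of_finite fun {d} hd hdvd => h d hd hdvd)

theorem exists_central {p : ℕ} (hp : p.Prime) (hd : p ∣ Nat.card G) :
    ∃ w : G, w ≠ 1 ∧ ¬ p ∣ (Subgroup.centralizer ({w} : Set G)).index := by
  haveI := Fact.mk hp
  obtain ⟨P⟩ : Nonempty (Sylow p G) := inferInstance
  haveI : Nontrivial (P : Subgroup G) :=
    (Subgroup.nontrivial_iff_ne_bot _).2 (P.ne_bot_of_dvd_card hd)
  haveI := P.2.center_nontrivial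
  obtain ⟨w, hw⟩ := exists_ne (1 : Subgroup.center (P : Subgroup G))
  refine ⟨((w : (P : Subgroup G)) : G), fun e => hw (Subtype.ext (Subtype.ext e)),
    not_dvd_of_sylow_le P fun v hv => mem_cen.2 ?_⟩
  exact (congrArg Subtype.val (Subgroup.mem_center_iff.1 w.2 ⟨v, hv⟩)).symm

theorem no_one_max (hG : ¬ IsMulCommutative G) {z : G} (hz : z ≠ 1)
    (h : ∀ x : G, x ≠ 1 → cn x ∣ cn z) : False := by
  refine cen_ne_top hG hz (Subgroup.index_eq_one.1 ?_)
  by_contra h1
  obtain ⟨p, hp, hd⟩ := Nat.exists_prime_and_dvd h1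
  obtain ⟨w, hw, hwp⟩ := exists_central hp (hd.trans (Subgroup.index_dvd_card _))
  obtain ⟨t, ht⟩ := h w hw
  apply hwp
  have e := (cn_mul_index w).trans (cn_mul_index z).symm
  rw [ht, mul_assoc] at e
  rw [Nat.eq_of_mul_eq_mul_left (cn_pos w) e]
  exact hd.mul_left t

theorem no_two_max (hG : ¬ IsMulCommutative G) (a b c : ℕ)
    (hval : ∀ x : G, x ≠ 1 → cn x = a ∨ cn x = b ∨ cn x = c)
    (hab : ¬ a ∣ b) (hba : ¬ b ∣ a) (hac : ¬ a ∣ c) (hbc : ¬ b ∣ c) (hca : c ∣ a)
    {x₁ : G} (hx₁ : x₁ ≠ 1) (hxa : cn x₁ = a) {y₁ : G} (hy₁ : y₁ ≠ 1) (hyb : cn y₁ = b) :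
    False := by
  set ia := (Subgroup.centralizer ({x₁} : Set G)).index with hia
  set ib := (Subgroup.centralizer ({y₁} : Set G)).index with hib
  have hga : a * ia = Nat.card G := hxa ▸ cn_mul_index x₁
  have hgb : b * ib = Nat.card G := hyb ▸ cn_mul_index y₁
  have ha0 : 0 < a := hxa ▸ cn_pos x₁
  have hb0 : 0 < b := hyb ▸ cn_pos y₁
  have hindA : ∀ x : G, cn x = a → (Subgroup.centralizer ({x} : Set G)).index = ia := fun x hx =>
    Nat.eq_of_mul_eq_mul_left ha0 ((hx ▸ cn_mul_index x).trans hga.symm)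
  have hindB : ∀ x : G, cn x = b → (Subgroup.centralizer ({x} : Set G)).index = ib := fun x hx =>
    Nat.eq_of_mul_eq_mul_left hb0 ((hx ▸ cn_mul_index x).trans hgb.symm)
  have hfull : ∀ p : ℕ, p.Prime → ¬ p ∣ ia ∨ ¬ p ∣ ib := by
    intro p hp
    by_contra! h
    obtain ⟨w, hw, hwp⟩ := exists_central hp (h.1.trans (Subgroup.index_dvd_card _))
    rcases hval w hw with e | e | e
    · exact hwp (hindA w e ▸ h.1)
    · exact hwp (hindB w e ▸ h.2)
    · obtain ⟨t, ht⟩ := hca
      have e2 : c * (Subgroup.centralizer ({w} : Set G)).index = c * (t * ia) := by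
        rw [← mul_assoc, ← ht, hga, ← e, cn_mul_index]
      rw [Nat.eq_of_mul_eq_mul_left (e ▸ cn_pos w) e2] at hwp
      exact hwp (h.1.mul_left t)
  have hcop : Nat.Coprime ia ib := Nat.coprime_of_dvd fun p hp h1 h2 =>
    (hfull p hp).elim (fun h => h h1) (fun h => h h2)
  have hnc : ∀ x y : G, x ≠ 1 → y ≠ 1 → cn x = a → cn y = b →
      x ∉ Subgroup.centralizer ({y} : Set G) := fun x y hx hy ex ey h =>
    not_coprime_commute hG hx hy h (by rw [hindA x ex, hindB y ey]; exact hcop)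
  have hpowA : ∀ x : G, x ≠ 1 → cn x = a → ∃ p k, p.Prime ∧ orderOf (x ^ k) = p ∧ x ^ k ≠ 1 ∧
      cn (x ^ k) = a ∧
      Subgroup.centralizer ({x ^ k} : Set G) = Subgroup.centralizer ({x} : Set G) := by
    intro x hx ex
    obtain ⟨p, k, hp, hk, hk1⟩ := exists_prime_pow hx
    have hd := cn_dvd_of_le (cen_le_pow x k)
    rw [ex] at hd
    have e : cn (x ^ k) = a := by
      rcases hval _ hk1 with e | e | e
      · exact e
      · exact absurd (e ▸ hd) hab
      · exact absurd (e ▸ hd) hac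
    exact ⟨p, k, hp, hk, hk1, e, (eq_of_le_cn (cen_le_pow x k) (by rw [ex, e])).symm⟩
  have hpowB : ∀ x : G, x ≠ 1 → cn x = b → ∃ p k, p.Prime ∧ orderOf (x ^ k) = p ∧ x ^ k ≠ 1 ∧
      cn (x ^ k) = b ∧
      Subgroup.centralizer ({x ^ k} : Set G) = Subgroup.centralizer ({x} : Set G) := by
    intro x hx ex
    obtain ⟨p, k, hp, hk, hk1⟩ := exists_prime_pow hx
    have hd := cn_dvd_of_le (cen_le_pow x k)
    rw [ex] at hd
    have e : cn (x ^ k) = b := by
      rcases hval _ hk1 with e | e | e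
      · exact absurd (e ▸ hd) hba
      · exact e
      · exact absurd (e ▸ hd) hbc
    exact ⟨p, k, hp, hk, hk1, e, (eq_of_le_cn (cen_le_pow x k) (by rw [ex, e])).symm⟩
  have hprod : ∀ {p q : ℕ}, p.Prime → q.Prime → p ≠ q → ∀ x u : G, orderOf x = p → orderOf u = q →
      cn u = c → x ∈ Subgroup.centralizer ({u} : Set G) →
      Subgroup.centralizer ({u} : Set G) ≤ Subgroup.centralizer ({x} : Set G) := by
    intro p q hp hq hne x u hx hu ec hxu
    have hcm : Commute x u := (mem_cen.1 hxu : Commute u x).symm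
    have hco : (orderOf x).Coprime (orderOf u) := by rw [hx, hu]; exact (Nat.coprime_primes hp hq).2 hne
    have hC := cen_mul_eq hcm hco
    have hne1 : x * u ≠ 1 := fun e => by
      have := hcm.orderOf_mul_eq_mul_orderOf_of_coprime hco
      rw [e, orderOf_one, hx, hu] at this
      exact hp.ne_one (Nat.eq_one_of_mul_eq_one_right this.symm)
    have hd : cn (x * u) ∣ c := ec ▸ cn_dvd_of_le (hC.le.trans inf_le_right)
    have e : cn (x * u) = c := by
      rcases hval _ hne1 with e | e | e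
      · exact absurd (e ▸ hd) hac
      · exact absurd (e ▸ hd) hbc
      · exact e
    rw [← eq_of_le_cn (hC.le.trans inf_le_right) (e.trans ec.symm)]
    exact hC.le.trans inf_le_left
  have hmix : ∀ x y u : G, ∀ p : ℕ, p.Prime → orderOf u = p → x ≠ 1 → y ≠ 1 → cn x = a →
      cn y = b → cn u = c → u ∈ Subgroup.centralizer ({x} : Set G) →
      u ∈ Subgroup.centralizer ({y} : Set G) → False := by
    intro x y u p hp hu hx hy ex ey ec hux huy
    obtain ⟨p1, k, hp1, hk, hk1, ek, eC⟩ := hpowA x hx ex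
    obtain ⟨p2, l, hp2, hl, hl1, el, eD⟩ := hpowB y hy ey
    rw [← eC] at hux
    rw [← eD] at huy
    have e1 : p1 = p := by
      by_contra hne
      exact hnc _ _ hk1 hl1 ek el (mem_cen_comm.1
        (hprod hp1 hp hne _ u hk hu ec (mem_cen_comm.1 hux) (mem_cen_comm.1 huy)))
    have e2 : p2 = p := by
      by_contra hne
      exact hnc _ _ hk1 hl1 ek el
        (hprod hp2 hp hne _ u hl hu ec (mem_cen_comm.1 huy) (mem_cen_comm.1 hux))
    subst e1
    subst e2
    rcases hfull p2 hp with h | h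
    · obtain ⟨g, hg⟩ := exists_conj_commute hp (x := x ^ k) (by rwa [hindA _ ek]) hl
      exact hnc _ _ (conj_ne_one hk1) hl1 ((cn_conj g _).trans ek) el (mem_cen_comm.1 hg)
    · obtain ⟨g, hg⟩ := exists_conj_commute hp (x := y ^ l) (by rwa [hindB _ el]) hk
      exact hnc _ _ hk1 (conj_ne_one hl1) ek ((cn_conj g _).trans el) hg
  have hdisj : Nat.Coprime a b := by
    refine Nat.coprime_of_dvd fun p hp hpa hpb => ?_
    haveI := Fact.mk hp
    rcases hfull p hp with h | h
    · obtain ⟨w, hw⟩ := exists_prime_orderOf_dvd_card'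
        (G := Subgroup.centralizer ({y₁} : Set G)) p (show p ∣ cn y₁ by rwa [hyb])
      rw [← Subgroup.orderOf_coe] at hw
      have hw1 := ne_one_of_prime hp hw
      obtain ⟨g, hg⟩ := exists_conj_commute hp (x := x₁) h hw
      rcases hval _ hw1 with e | e | e
      · exact hnc _ _ hw1 hy₁ e hyb w.2
      · exact hnc _ _ (conj_ne_one hx₁) hw1 ((cn_conj g _).trans hxa) e (mem_cen_comm.1 hg)
      · exact hmix _ _ _ p hp hw (conj_ne_one hx₁) hy₁ ((cn_conj g _).trans hxa) hyb e hg w.2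
    · obtain ⟨w, hw⟩ := exists_prime_orderOf_dvd_card'
        (G := Subgroup.centralizer ({x₁} : Set G)) p (show p ∣ cn x₁ by rwa [hxa])
      rw [← Subgroup.orderOf_coe] at hw
      have hw1 := ne_one_of_prime hp hw
      obtain ⟨g, hg⟩ := exists_conj_commute hp (x := y₁) h hw
      rcases hval _ hw1 with e | e | e
      · exact hnc _ _ hw1 (conj_ne_one hy₁) e ((cn_conj g _).trans hyb) hg
      · exact hnc _ _ hx₁ hw1 hxa e (mem_cen_comm.1 w.2)
      · exact hmix _ _ _ p hp hw hx₁ (conj_ne_one hy₁) hxa ((cn_conj g _).trans hyb) e w.2 hg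
  have e1 : ia = b := by
    have h1 : ia ∣ b := hcop.dvd_of_dvd_mul_right ⟨a, by rw [hgb, ← hga, mul_comm]⟩
    have h2 : b ∣ ia := hdisj.symm.dvd_of_dvd_mul_left ⟨ib, by rw [hga, ← hgb]⟩
    exact Nat.dvd_antisymm h1 h2
  have e2 : ib = a := by
    refine Nat.eq_of_mul_eq_mul_left hb0 ?_
    rw [hgb, ← hga, e1, mul_comm]
  have hcb : Nat.Coprime c b := Nat.Coprime.coprime_dvd_left hca hdisj
  -- the centralizer of the second type
  set B := Subgroup.centralizer ({y₁} : Set G) with hB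
  have htype : ∀ β ∈ B, β ≠ 1 → cn β = b := by
    intro β hβ hβ1
    rcases hval β hβ1 with e | e | e
    · exact absurd hβ (hnc β y₁ hβ1 hy₁ e hyb)
    · exact e
    · refine absurd (orderOf_eq_one_iff.1 (Nat.eq_one_of_dvd_coprimes hcb
        (e ▸ orderOf_dvd_cn' (mem_cen_comm.1 hβ)) (hyb ▸ orderOf_dvd_cn y₁))) hy₁
  obtain ⟨q, k, hq, hk, hk1, ek, eq1⟩ := hpowB y₁ hy₁ hyb
  obtain ⟨r, hr, hrd, hrq⟩ := exists_other_prime hG hx₁ hq
  rw [← hia, e1] at hrd
  have hsame : ∀ α β : G, α ∈ B → β ∈ B → orderOf α ≠ orderOf β → (orderOf α).Prime →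
      (orderOf β).Prime → β ∈ Subgroup.centralizer ({α} : Set G) →
      Subgroup.centralizer ({α} : Set G) = Subgroup.centralizer ({β} : Set G) := by
    intro α β hα hβ hne hpα hpβ hcm
    have hcm' : Commute α β := mem_cen.1 hcm
    have hco : (orderOf α).Coprime (orderOf β) := (Nat.coprime_primes hpα hpβ).2 hne
    have hC := cen_mul_eq hcm' hco
    have hne1 : α * β ≠ 1 := fun e => by
      have := hcm'.orderOf_mul_eq_mul_orderOf_of_coprime hco
      rw [e, orderOf_one] at this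
      exact hpα.ne_one (Nat.eq_one_of_mul_eq_one_right this.symm)
    have e := htype _ (B.mul_mem hα hβ) hne1
    have eα := htype α hα (ne_one_of_prime hpα rfl)
    have eβ := htype β hβ (ne_one_of_prime hpβ rfl)
    rw [← eq_of_le_cn (hC.le.trans inf_le_left) (e.trans eα.symm),
      eq_of_le_cn (hC.le.trans inf_le_right) (e.trans eβ.symm)]
  haveI := Fact.mk hr
  obtain ⟨ρ, hρ⟩ := exists_prime_orderOf_dvd_card' (G := B) r (show r ∣ cn y₁ by rwa [hyb])
  rw [← Subgroup.orderOf_coe] at hρ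
  have hy0B : y₁ ^ k ∈ B := B.pow_mem (mem_self y₁) k
  have eρ : Subgroup.centralizer ({(ρ : G)} : Set G) = B := by
    rw [← hsame (y₁ ^ k) ρ hy0B ρ.2 (by rw [hk, hρ]; exact Ne.symm hrq) (hk ▸ hq) (hρ ▸ hr)
      (by rw [eq1]; exact ρ.2), eq1]
  have hCC : ∀ β ∈ B, β ≠ 1 → Subgroup.centralizer ({β} : Set G) = B := by
    intro β hβ hβ1
    obtain ⟨p, l, hp, hl, hl1, el, eD⟩ := hpowB β hβ1 (htype β hβ hβ1)
    rw [← eD]
    have hlB : β ^ l ∈ B := B.pow_mem hβ l
    by_cases hpq : p = r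
    · rw [← hsame (y₁ ^ k) (β ^ l) hy0B hlB (by rw [hk, hl, hpq]; exact Ne.symm hrq) (hk ▸ hq)
        (hl ▸ hp) (by rw [eq1]; exact hlB), eq1]
    · rw [← hsame ρ (β ^ l) ρ.2 hlB (by rw [hρ, hl]; exact Ne.symm hpq) (hρ ▸ hr) (hl ▸ hp)
        (by rw [eρ]; exact hlB), eρ]
  have hBidx : B.index = a := e2
  have hBcard : Nat.card B = b := hyb
  haveI := Fintype.ofFinite G
  haveI : Fintype (Cfsg.IrrCharacter G) := Fintype.ofFinite _
  have huniq : ∀ x d v : G, x ≠ 1 → cn x = a → cn d = a → Commute x d →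
      Commute x (v * d * v⁻¹) → v * d * v⁻¹ = d := by
    intro x d v hx ex ed h1 h2
    have h := unique_commuting hG B (cc_comm hCC) hCC (by rw [hBidx, hBcard]; exact hdisj.symm)
      hx (by rw [hBcard, hindA x ex, e1]) (by rw [hBcard, hindA d ed, e1]) (v := v) (w := 1)
      h2 (by simpa using h1)
    simpa using h
  have heqC : ∀ x d : G, x ≠ 1 → d ≠ 1 → cn x = a → cn d = a →
      d ∈ Subgroup.centralizer ({x} : Set G) →
      Subgroup.centralizer ({x} : Set G) = Subgroup.centralizer ({d} : Set G) := by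
    intro x d hx hd ex ed h
    refine eq_of_le_cn (fun v hv => ?_) (ex.trans ed.symm)
    have hvx : Commute x v := mem_cen.1 hv
    have hxd : Commute x d := mem_cen.1 h
    have h' := huniq x d v hx ex ed hxd ((hvx.mul_right hxd).mul_right hvx.inv_right)
    exact mem_cen.2 (mul_inv_eq_iff_eq_mul.1 h').symm
  have htyp : ∀ x x' d : G, x ≠ 1 → x' ≠ 1 → cn x = a → cn x' = a →
      Subgroup.centralizer ({x} : Set G) ≠ Subgroup.centralizer ({x'} : Set G) → d ≠ 1 →
      d ∈ Subgroup.centralizer ({x} : Set G) → d ∈ Subgroup.centralizer ({x'} : Set G) →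
      cn d = c := by
    intro x x' d hx hx' ex ex' hne hd h h'
    rcases hval d hd with e | e | e
    · exact absurd ((heqC x d hx hd ex e h).trans (heqC x' d hx' hd ex' e h').symm) hne
    · exact absurd (mem_cen_comm.1 h) (hnc x d hx hd ex e)
    · exact e
  have hTI : ∀ x x' d : G, x ≠ 1 → x' ≠ 1 → cn x = a → cn x' = a → d ≠ 1 →
      d ∈ Subgroup.centralizer ({x} : Set G) → d ∈ Subgroup.centralizer ({x'} : Set G) →
      Subgroup.centralizer ({x} : Set G) = Subgroup.centralizer ({x'} : Set G) := by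
    intro x x' d hx hx' ex ex' hd h h'
    by_contra hne
    obtain ⟨p, k, hp, hk, hk1, ek, eC⟩ := hpowA x hx ex
    have hord : ∀ v : G, ∀ s : ℕ, s.Prime → orderOf v = s →
        v ∈ Subgroup.centralizer ({x} : Set G) → v ∈ Subgroup.centralizer ({x'} : Set G) →
        s = p := by
      intro v s hs hv hvx hvx'
      by_contra hsp
      have hv1 := ne_one_of_prime hs hv
      have ev := htyp x x' v hx hx' ex ex' hne hv1 hvx hvx'
      have hle := hprod hp hs (Ne.symm hsp) (x ^ k) v hk hv ev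
        (mem_cen_comm.1 (by rw [eC]; exact hvx))
      rw [eC] at hle
      exact hne (heqC x x' hx hx' ex ex' (hle (mem_cen_comm.1 hvx')))
        
    obtain ⟨r, l, hr, hl, hl1⟩ := exists_prime_pow hd
    set e := d ^ l with he
    have hex : e ∈ Subgroup.centralizer ({x} : Set G) := Subgroup.pow_mem _ h l
    have hex' : e ∈ Subgroup.centralizer ({x'} : Set G) := Subgroup.pow_mem _ h' l
    have ec := htyp x x' e hx hx' ex ex' hne hl1 hex hex'
    have hrp := hord e r hr hl hex hex'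
    have hpc : ∀ s : ℕ, s.Prime → s ∣ c → s = p := by
      intro s hs hsc
      by_contra hsp
      haveI := Fact.mk hs
      obtain ⟨v, hv⟩ := exists_prime_orderOf_dvd_card'
        (G := Subgroup.centralizer ({e} : Set G)) s (show s ∣ cn e by rwa [ec])
      rw [← Subgroup.orderOf_coe] at hv
      have hle := hprod hs hr (hrp ▸ hsp) (v : G) e hv hl ec v.2
      exact hsp (hord v s hs hv (mem_cen_comm.1 (hle (mem_cen_comm.1 hex)))
        (mem_cen_comm.1 (hle (mem_cen_comm.1 hex'))))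
    obtain ⟨s, hs, hsd, hsp⟩ := exists_other_prime hG hy₁ hp
    rw [← hib, e2] at hsd
    haveI := Fact.mk hs
    obtain ⟨v, hv⟩ := exists_prime_orderOf_dvd_card'
      (G := Subgroup.centralizer ({x} : Set G)) s (show s ∣ cn x by rwa [ex])
    rw [← Subgroup.orderOf_coe] at hv
    have hv1 := ne_one_of_prime hs hv
    apply hsp
    apply hpc s hs
    rcases hval _ hv1 with e' | e' | e'
    · rw [← ec, ← hv]
      refine orderOf_dvd_cn' (mem_cen_comm.1 ?_)
      rw [← heqC x v hx hv1 ex e' v.2]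
      exact hex
    · exact absurd (mem_cen_comm.1 v.2) (hnc x v hx hv1 ex e')
    · rw [← e', ← hv]
      exact orderOf_dvd_cn _
  set H := Subgroup.centralizer ({x₁} : Set G) with hH
  have hN : Subgroup.normalizer (H : Set G) = H := by
    refine le_antisymm (fun v hv => ?_) Subgroup.le_normalizer
    have h := (Subgroup.mem_normalizer_iff.1 hv x₁).1 (mem_self x₁)
    have h' := huniq x₁ x₁ v hx₁ hxa hxa (Commute.refl _) (mem_cen.1 h)
    exact mem_cen.2 (mul_inv_eq_iff_eq_mul.1 h').symm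
  have hcardH : (conjU H).ncard = b * (a - 1) := by
    have hti : ∀ g : G, g ∉ Subgroup.normalizer (H : Set G) → ∀ y ∈ H, g⁻¹ * y * g ∈ H → y = 1 := by
      intro g hg y hy hgy
      by_contra hy1
      apply hg
      have h := hTI x₁ (g * x₁ * g⁻¹) y hx₁ (conj_ne_one hx₁) hxa ((cn_conj g _).trans hxa) hy1 hy
        (mem_cen_conj.2 hgy)
      have hm : g * x₁ * g⁻¹ ∈ H := by rw [hH, h]; exact mem_self _
      have h' := huniq x₁ x₁ g hx₁ hxa hxa (Commute.refl _) (mem_cen.1 hm)
      exact Subgroup.le_normalizer (mem_cen.2 (mul_inv_eq_iff_eq_mul.1 h').symm)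
    rw [ncard_conjU H hti, hN, ← hia, e1]
    exact congrArg (fun n => b * (n - 1)) hxa
  have hcardB : (conjU B).ncard = (Subgroup.normalizer (B : Set G)).index * (b - 1) := by
    rw [ncard_conjU B (fun g hg y hy => cc_ti hCC hg hy), hBcard]
  have hdis : Disjoint (conjU H) (conjU B) := by
    rw [Set.disjoint_left]
    rintro z ⟨hz, g, hg⟩ hzB
    obtain ⟨-, g', hg'⟩ := hzB
    have h1 := orderOf_dvd_cn' (x := g * x₁ * g⁻¹) (mem_cen_conj.2 hg)
    have h2 := orderOf_dvd_cn' (x := g' * y₁ * g'⁻¹) (mem_cen_conj.2 hg')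
    rw [cn_conj, hxa] at h1
    rw [cn_conj, hyb] at h2
    exact hz (orderOf_eq_one_iff.1 (Nat.eq_one_of_dvd_coprimes hdisj h1 h2))
  have hle : (conjU H).ncard + (conjU B).ncard ≤ Nat.card G - 1 := by
    rw [← Set.ncard_union_eq hdis (Set.toFinite _) (Set.toFinite _), ← ncard_compl_one]
    exact Set.ncard_le_ncard (Set.union_subset (conjU_subset _) (conjU_subset _)) (Set.toFinite _)
  rw [hcardH, hcardB] at hle
  set K := (Subgroup.normalizer (B : Set G)).index with hK
  have hK1 : K = 1 := by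
    have hK0 : K ≠ 0 := Subgroup.index_ne_zero_of_finite
    have hb2 : 2 ≤ b := le_trans hr.two_le (Nat.le_of_dvd hb0 hrd)
    by_contra hne
    have h2 : 2 * (b - 1) ≤ K * (b - 1) := Nat.mul_le_mul_right _ (by omega)
    rw [← hga, e1] at hle
    rw [Nat.mul_sub, mul_one, mul_comm b a] at hle
    have : b ≤ a * b := Nat.le_mul_of_pos_left b ha0
    omega
  have hnormal : B.Normal := Subgroup.normalizer_eq_top_iff.1 (Subgroup.index_eq_one.1 hK1)
  rcases IsSimpleGroup.eq_bot_or_eq_top_of_normal B hnormal with h | h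
  · exact hy₁ (Subgroup.mem_bot.1 (h ▸ mem_self y₁ : y₁ ∈ (⊥ : Subgroup G)))
  · exact cen_ne_top hG hy₁ h

/-- With three centralizer orders, inclusion between centralizers is equality. -/
theorem antichain (hG : ¬ IsMulCommutative G) (hV : (cn '' ({1}ᶜ : Set G)).ncard = 3) {x y : G}
    (hx : x ≠ 1) (hy : y ≠ 1)
    (h : Subgroup.centralizer ({x} : Set G) ≤ Subgroup.centralizer ({y} : Set G)) :
    Subgroup.centralizer ({x} : Set G) = Subgroup.centralizer ({y} : Set G) := by
  refine eq_of_le_cn h ?_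
  by_contra hne
  set V := cn '' ({1}ᶜ : Set G) with hVdef
  have hmem : ∀ z : G, z ≠ 1 → cn z ∈ V := fun z hz => ⟨z, hz, rfl⟩
  have hsub : ({cn x, cn y} : Set ℕ) ⊆ V :=
    Set.insert_subset (hmem x hx) (Set.singleton_subset_iff.2 (hmem y hy))
  have h1 : (V \ {cn x, cn y}).ncard = 1 := by
    rw [Set.ncard_sdiff hsub, hV, Set.ncard_pair hne]
  obtain ⟨b, hb⟩ := Set.ncard_eq_one.1 h1
  have hbV : b ∈ V \ ({cn x, cn y} : Set ℕ) := by rw [hb]; exact rfl
  obtain ⟨w, hw, rfl⟩ := hbV.1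
  have hw1 : w ≠ 1 := hw
  have hval : ∀ z : G, z ≠ 1 → cn z = cn y ∨ cn z = cn w ∨ cn z = cn x := by
    intro z hz
    by_cases h2 : cn z ∈ ({cn x, cn y} : Set ℕ)
    · rcases h2 with h2 | h2
      · exact Or.inr (Or.inr h2)
      · exact Or.inl h2
    · have : cn z ∈ ({cn w} : Set ℕ) := hb ▸ ⟨hmem z hz, h2⟩
      exact Or.inr (Or.inl this)
  have hxy := cn_dvd_of_le h
  by_cases h3 : cn w ∣ cn y
  · exact no_one_max hG hy fun z hz => by
      rcases hval z hz with e | e | e
      · rw [e]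
      · rw [e]; exact h3
      · rw [e]; exact hxy
  by_cases h4 : cn y ∣ cn w
  · exact no_one_max hG hw1 fun z hz => by
      rcases hval z hz with e | e | e
      · rw [e]; exact h4
      · rw [e]
      · rw [e]; exact hxy.trans h4
  exact no_two_max hG (cn y) (cn w) (cn x) hval h4 h3
    (fun h5 => hne (Nat.dvd_antisymm hxy h5)) (fun h5 => h3 (h5.trans hxy)) hxy hy rfl hw1 rfl

end Cfsg.Agent.Lib.Inv59.RankThree
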