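import Mathlib
import Cfsg.Agent.Lib.Inv59.RankThree.Basic
import Cfsg.Agent.Lib.Inv59.RankThree.Chain
import Cfsg.Agent.S0183
import Cfsg.Agent.S0588
import Cfsg.Agent.S1224
import Cfsg.Agent.S1225
import Cfsg.Agent.S1230

/-!
# Simple groups with three centralizer orders
-/

set_option autoImplicit false
set_option linter.unusedSectionVars false
set_option linter.style.haveILetI false

namespace Cfsg.Agent.Lib.Inv59.RankThree

open Cfsg Cfsg.Agent.Lib.ClassSizes.Basic

universe u

variable {G : Type u} [Group G] [Finite G]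

/-- The hypothesis that inclusion between centralizers is equality. -/
def AC (G : Type u) [Group G] : Prop :=
  ∀ x y : G, x ≠ 1 → y ≠ 1 →
    Subgroup.centralizer ({x} : Set G) ≤ Subgroup.centralizer ({y} : Set G) →
    Subgroup.centralizer ({x} : Set G) = Subgroup.centralizer ({y} : Set G)

theorem cc_or_pgroup (hac : AC G) {x : G} (hx : x ≠ 1) :
    (∀ y ∈ Subgroup.centralizer ({x} : Set G), y ≠ 1 →
      Subgroup.centralizer ({y} : Set G) = Subgroup.centralizer ({x} : Set G)) ∨
    ∃ p : ℕ, p.Prime ∧ IsPGroup p (Subgroup.centralizer ({x} : Set G)) := by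
  obtain ⟨p, k, hp, hk, hk1⟩ := exists_prime_pow hx
  have e0 := hac _ _ hx hk1 (cen_le_pow x k)
  have key : ∀ α β : G, α ≠ 1 → β ≠ 1 → Commute α β → (orderOf α).Coprime (orderOf β) →
      Subgroup.centralizer ({α} : Set G) = Subgroup.centralizer ({β} : Set G) := by
    intro α β hα hβ hcm hco
    have hC := cen_mul_eq hcm hco
    have hne : α * β ≠ 1 := fun e => by
      have := hcm.orderOf_mul_eq_mul_orderOf_of_coprime hco
      rw [e, orderOf_one] at this
      exact hα (orderOf_eq_one_iff.1 (Nat.eq_one_of_mul_eq_one_right this.symm))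
    rw [← hac _ _ hne hα (hC.le.trans inf_le_left), hac _ _ hne hβ (hC.le.trans inf_le_right)]
  by_cases hq : ∃ q : ℕ, q.Prime ∧ q ≠ p ∧ q ∣ cn x
  · obtain ⟨q, hq, hqp, hqd⟩ := hq
    haveI := Fact.mk hq
    obtain ⟨v, hv⟩ := exists_prime_orderOf_dvd_card'
      (G := Subgroup.centralizer ({x} : Set G)) q hqd
    rw [← Subgroup.orderOf_coe] at hv
    have hv1 := ne_one_of_prime hq hv
    have hvk : (v : G) ∈ Subgroup.centralizer ({x ^ k} : Set G) := cen_le_pow x k v.2
    have ev : Subgroup.centralizer ({(v : G)} : Set G) = Subgroup.centralizer ({x} : Set G) := by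
      exact (key _ _ hk1 hv1 (mem_cen.1 hvk)
        (by rw [hk, hv]; exact (Nat.coprime_primes hp hq).2 (Ne.symm hqp))).symm.trans e0.symm
    refine Or.inl fun y hy hy1 => ?_
    obtain ⟨r, l, hr, hl, hl1⟩ := exists_prime_pow hy1
    rw [hac _ _ hy1 hl1 (cen_le_pow y l)]
    have hly : y ^ l ∈ Subgroup.centralizer ({x} : Set G) := Subgroup.pow_mem _ hy l
    by_cases hrp : r = p
    · rw [← ev]
      refine key _ _ hl1 hv1 ?_ (by rw [hl, hv, hrp]; exact (Nat.coprime_primes hp hq).2 (Ne.symm hqp))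
      rw [← ev] at hly
      exact (mem_cen.1 hly : Commute (v : G) (y ^ l)).symm
    · rw [e0]
      refine key _ _ hl1 hk1 ?_ (by rw [hl, hk]; exact (Nat.coprime_primes hr hp).2 hrp)
      rw [e0] at hly
      exact (mem_cen.1 hly : Commute (x ^ k) (y ^ l)).symm
  · refine Or.inr ⟨p, hp, IsPGroup.of_card (n := (cn x).primeFactorsList.length)
      (Nat.eq_prime_pow_of_unique_prime_dvd (cn_pos x).ne' fun {d} hd hdvd => ?_)⟩
    by_contra hne
    exact hq ⟨d, hd, hne, hdvd⟩

theorem isCN (hac : AC G) : Cfsg.IsCNGroup G := by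
  intro g hg
  rcases cc_or_pgroup hac hg with h | ⟨p, hp, h⟩
  · have hab := cc_comm h
    letI : CommGroup (Subgroup.centralizer ({g} : Set G)) :=
      { (inferInstance : Group (Subgroup.centralizer ({g} : Set G))) with
        mul_comm := hab.is_comm.comm }
    exact CommGroup.isNilpotent
  · haveI := Fact.mk hp
    exact h.isNilpotent

variable [IsSimpleGroup G]

theorem exists_involution_cc (hG : ¬ IsMulCommutative G) (hac : AC G) :
    ∃ t : G, orderOf t = 2 ∧ ∀ y ∈ Subgroup.centralizer ({t} : Set G), y ≠ 1 →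
      Subgroup.centralizer ({y} : Set G) = Subgroup.centralizer ({t} : Set G) := by
  have heven : 2 ∣ Nat.card G := by
    by_contra h
    have hsol := Cfsg.Agent.S0183.result
      (Nat.not_even_iff_odd.1 fun e => h (even_iff_two_dvd.1 e)) (isCN hac)
    exact hG ⟨⟨IsSimpleGroup.comm_iff_isSolvable.2 hsol⟩⟩
  obtain ⟨S⟩ : Nonempty (Sylow 2 G) := inferInstance
  haveI : Nontrivial (S : Subgroup G) :=
    (Subgroup.nontrivial_iff_ne_bot _).2 (S.ne_bot_of_dvd_card heven)
  haveI := S.2.center_nontrivial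
  have h2 : 2 ∣ Nat.card (Subgroup.center (S : Subgroup G)) := by
    have hpg : IsPGroup 2 (Subgroup.center (S : Subgroup G)) := S.2.to_subgroup _
    obtain ⟨n, hn, hn'⟩ := hpg.nontrivial_iff_card.1 inferInstance
    rw [hn']
    exact dvd_pow_self 2 hn.ne'
  obtain ⟨z, hz⟩ := exists_prime_orderOf_dvd_card'
    (G := Subgroup.center (S : Subgroup G)) 2 h2
  rw [← Subgroup.orderOf_coe, ← Subgroup.orderOf_coe] at hz
  set t : G := ((z : (S : Subgroup G)) : G) with ht
  have ht1 : t ≠ 1 := ne_one_of_prime Nat.prime_two hz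
  have hSt : (S : Subgroup G) ≤ Subgroup.centralizer ({t} : Set G) := fun v hv =>
    mem_cen.2 (congrArg Subtype.val (Subgroup.mem_center_iff.1 z.2 ⟨v, hv⟩)).symm
  refine ⟨t, hz, ?_⟩
  rcases cc_or_pgroup hac ht1 with h | ⟨p, hp, h⟩
  · exact h
  have hp2 : p = 2 := by
    haveI := Fact.mk hp
    obtain ⟨n, hn⟩ := IsPGroup.iff_card.1 h
    have := orderOf_dvd_cn t
    rw [hz, cn, hn] at this
    exact ((Nat.prime_dvd_prime_iff_eq Nat.prime_two hp).1 (Nat.prime_two.dvd_of_dvd_pow this)).symm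
  subst hp2
  have hS : Subgroup.centralizer ({t} : Set G) = S := S.is_maximal' h hSt
  have hcen : ∀ y ∈ (S : Subgroup G), y * y ≠ 1 → ∀ w ∈ (S : Subgroup G), y * w = w * y := by
    intro y hy hy2 w hw
    have hy1 : y ≠ 1 := fun e => hy2 (by simp [e])
    have e1 : Subgroup.centralizer ({y} : Set G) = Subgroup.centralizer ({y * y} : Set G) :=
      hac _ _ hy1 hy2 (by simpa [pow_two] using cen_le_pow y 2)
    have hty : Commute y t := (mem_cen.1 (hSt hy) : Commute t y).symm
    have ht2 : t * t = 1 := by rw [← pow_two, ← hz, pow_orderOf_eq_one]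
    have hsq : (y * t) * (y * t) = y * y := by
      rw [hty.symm.mul_mul_mul_comm, ht2, mul_one]
    have hyt1 : y * t ≠ 1 := fun e => hy2 (by rw [← hsq, e, mul_one])
    have e2 : Subgroup.centralizer ({y * t} : Set G) = Subgroup.centralizer ({y} : Set G) := by
      rw [e1]
      refine hac _ _ hyt1 hy2 ?_
      rw [← hsq]
      simpa [pow_two] using cen_le_pow (y * t) 2
    have hle : Subgroup.centralizer ({y} : Set G) ≤ Subgroup.centralizer ({t} : Set G) := by
      intro v hv
      have h1 : Commute y v := mem_cen.1 hv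
      have h2 : Commute (y * t) v := mem_cen.1 (e2.symm ▸ hv)
      have h3 := h1.inv_left.mul_left h2
      rw [inv_mul_cancel_left] at h3
      exact mem_cen.2 h3
    refine mem_cen.1 ?_
    rw [hac _ _ hy1 ht1 hle]
    exact hSt hw
  have hab : ∀ a b : G, a ∈ (S : Subgroup G) → b ∈ (S : Subgroup G) → a * b = b * a := by
    intro a b ha hb
    by_cases h1 : a * a = 1
    · by_cases h2 : b * b = 1
      · by_cases h3 : (a * b) * (a * b) = 1
        · calc a * b = (a * b)⁻¹ := (inv_eq_of_mul_eq_one_right h3).symm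
            _ = b⁻¹ * a⁻¹ := mul_inv_rev a b
            _ = b * a := by rw [inv_eq_of_mul_eq_one_right h1, inv_eq_of_mul_eq_one_right h2]
        · have h4 := hcen _ (Subgroup.mul_mem _ ha hb) h3 a ha
          rw [mul_assoc] at h4
          exact (mul_left_cancel h4).symm
      · exact (hcen b hb h2 a ha).symm
    · exact hcen a ha h1 b hb
  intro y hy hy1
  refine (hac _ _ ht1 hy1 fun w hw => mem_cen.2 ?_).symm
  rw [hS] at hy hw
  exact hab y w hy hw

set_option maxHeartbeats 1600000 in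
/-- A simple group with three centralizer orders and no proper inclusions. -/
theorem forward (hG : ¬ IsMulCommutative G) (hac : AC G)
    (hV : (cn '' ({1}ᶜ : Set G)).ncard = 3) :
    ∃ (m : ℕ) (F : Type) (_ : Field F) (_ : Fintype F), 2 ≤ m ∧ Fintype.card F = 2 ^ m ∧
      Nonempty (G ≃* Matrix.ProjectiveSpecialLinearGroup (Fin 2) F) := by
  obtain ⟨t, ht, hCA⟩ := exists_involution_cc hG hac
  set A := Subgroup.centralizer ({t} : Set G) with hA
  have ht1 : t ≠ 1 := ne_one_of_prime Nat.prime_two ht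
  have htA : t ∈ A := mem_self t
  set a := Nat.card A with ha
  have hAcop : a.Coprime A.index := Cfsg.Agent.S0588.result A fun x hx h1 => (hCA x hx h1).le
  have h2a : 2 ∣ a := ht ▸ orderOf_dvd_cn' htA
  have hA2 : ¬ 2 ∣ A.index := fun h => by
    have := Nat.eq_one_of_dvd_coprimes hAcop h2a h
    omega
  have hinvA : ∀ i : G, orderOf i = 2 → ∃ g : G, g * i * g⁻¹ ∈ A := fun i hi =>
    exists_conj_mem Nat.prime_two hA2 hi
  set N := Subgroup.normalizer (A : Set G) with hN
  set k := A.relIndex N with hk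
  have hkg : k * N.index = A.index := Subgroup.relIndex_mul_index Subgroup.le_normalizer
  have hkcop : a.Coprime k := Nat.Coprime.coprime_dvd_right ⟨_, hkg.symm⟩ hAcop
  have hmemA : ∀ v ∈ N, orderOf v ∣ a → v ∈ A := fun v hv h =>
    mem_of_normalizer hv (Nat.Coprime.coprime_dvd_left h hkcop)
  have hkodd : Odd k := Nat.not_even_iff_odd.1 fun h => hA2
    ((even_iff_two_dvd.1 h).trans ⟨_, hkg.symm⟩)
  have hAne : A ≠ ⊤ := cen_ne_top hG ht1
  have hNne : N ≠ ⊤ := fun h => by
    have hn : A.Normal := Subgroup.normalizer_eq_top_iff.1 h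
    rcases IsSimpleGroup.eq_bot_or_eq_top_of_normal A hn with h' | h'
    · exact ht1 (Subgroup.mem_bot.1 (h' ▸ htA : t ∈ (⊥ : Subgroup G)))
    · exact hAne h'
  have hti := fun {g y : G} => cc_ti (A := A) hCA (g := g) (y := y)
  have hSE : Cfsg.IsStronglyEmbedded N := by
    refine ⟨hNne, even_iff_two_dvd.2 (h2a.trans (Subgroup.card_dvd_of_le Subgroup.le_normalizer)),
      fun g hg => Nat.not_even_iff_odd.1 fun he => ?_⟩
    obtain ⟨s, hs⟩ := exists_prime_orderOf_dvd_card'
      (G := (N ⊓ N.map (MulAut.conj g).toMonoidHom : Subgroup G)) 2 (even_iff_two_dvd.1 he)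
    rw [← Subgroup.orderOf_coe] at hs
    have h1 : (s : G) ∈ N := s.2.1
    have h2 : g⁻¹ * (s : G) * g ∈ N := by
      have := Subgroup.mem_map_equiv.1 s.2.2
      rwa [MulAut.conj_symm_apply] at this
    have hs' : orderOf (g⁻¹ * (s : G) * g) = 2 := by
      have := (MulAut.conj g⁻¹).orderOf_eq (s : G)
      rw [MulAut.conj_apply, inv_inv] at this
      rw [this, hs]
    exact ne_one_of_prime Nat.prime_two hs
      (hti hg (hmemA _ h1 (hs ▸ h2a)) (hmemA _ h2 (hs'.symm ▸ h2a)))
  -- an involution outside the normalizer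
  obtain ⟨u, hu, huN⟩ : ∃ u : G, orderOf u = 2 ∧ u ∉ N := by
    obtain ⟨g, hg⟩ : ∃ g : G, g ∉ N := by
      by_contra! h
      exact hNne ((Subgroup.eq_top_iff' _).2 h)
    have h2 : orderOf (g * t * g⁻¹) = 2 := by
      have := (MulAut.conj g).orderOf_eq t
      rw [MulAut.conj_apply] at this
      rw [this, ht]
    refine ⟨g * t * g⁻¹, h2, fun h => ?_⟩
    exact ne_one_of_prime Nat.prime_two h2 (hti hg (hmemA _ h (h2.symm ▸ h2a))
      (by convert htA using 1; group))
  let D : G → Subgroup G := fun v => N ⊓ N.map (MulAut.conj v).toMonoidHom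
  set J := {s : G | orderOf s = 2 ∧ s ∈ N} with hJ
  have hJA : J ⊆ A := fun s hs => hmemA s hs.2 (hs.1.symm ▸ h2a)
  have hinj : ∀ v : G, orderOf v = 2 → v ∉ N → A ⊓ D v = ⊥ := by
    intro v hv hvN
    rw [eq_bot_iff]
    intro y hy
    rw [Subgroup.mem_bot]
    have h1 : v⁻¹ * y * v ∈ N := by
      have := Subgroup.mem_map_equiv.1 hy.2.2
      rwa [MulAut.conj_symm_apply] at this
    have h2 : orderOf (v⁻¹ * y * v) ∣ a := by
      have := (MulAut.conj v⁻¹).orderOf_eq y
      rw [MulAut.conj_apply, inv_inv] at this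
      rw [this]
      exact orderOf_dvd_cn' hy.1
    exact hti hvN hy.1 (hmemA _ h1 h2)
  have hJk : J.ncard = k ∧ ∀ v : G, orderOf v = 2 → v ∉ N → Nat.card (D v) = k := by
    have key : ∀ v : G, orderOf v = 2 → v ∉ N → J.ncard = k ∧ Nat.card (D v) = k := by
      intro v hv hvN
      have e1 : A.relIndex (D v) = Nat.card (D v) := by
        rw [← Subgroup.inf_relIndex_right, hinj v hv hvN, Subgroup.relIndex_bot_left]
      have hle : Nat.card (D v) ≤ k :=
        e1 ▸ Subgroup.relIndex_le_of_le_right inf_le_left Subgroup.index_ne_zero_of_finite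
      have horb : ∀ K : Subgroup G, K ≤ N → EightAuto.orb K t ⊆ J := by
        rintro K hK s ⟨n, hn, rfl⟩
        refine ⟨?_, N.mul_mem (N.mul_mem (hK hn) (Subgroup.le_normalizer htA)) (N.inv_mem (hK hn))⟩
        have := (MulAut.conj n).orderOf_eq t
        rw [MulAut.conj_apply] at this
        rw [this, ht]
      have h1 : J ⊆ EightAuto.orb (D v) t := by
        intro s hs
        obtain ⟨d, hd, e⟩ := (Cfsg.Agent.S1225.result N hSE v hv hvN t s ht
          (Subgroup.le_normalizer htA) hs.1 hs.2).1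
        exact ⟨d, hd, e⟩
      have h2 : J.ncard ≤ Nat.card (D v) := by
        refine (Set.ncard_le_ncard h1 (Set.toFinite _)).trans (le_of_eq ?_)
        rw [EightAuto.ncard_orb, ← hA, e1]
      have h3 : k ≤ J.ncard := by
        have := Set.ncard_le_ncard (horb N le_rfl) (Set.toFinite _)
        rwa [EightAuto.ncard_orb, ← hA] at this
      exact ⟨by omega, by omega⟩
    exact ⟨(key u hu huN).1, fun v hv hvN => (key v hv hvN).2⟩
  obtain ⟨hJk, hDk⟩ := hJk
  have hk3 : 3 ≤ k := by
    obtain ⟨S⟩ : Nonempty (Sylow 2 G) := inferInstance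
    haveI := Fact.mk Nat.prime_two
    obtain ⟨R, hR⟩ := exists_sylow_le hA2
    have hP : IsPGroup 2 (Subgroup.zpowers t) :=
      IsPGroup.of_card (n := 1) (by rw [Nat.card_zpowers, ht, pow_one])
    obtain ⟨P, hP'⟩ := hP.exists_le_sylow
    obtain ⟨g, hg⟩ := MulAction.exists_smul_eq G P R
    set s := g * t * g⁻¹ with hs
    have hsR : s ∈ (R : Subgroup G) := by
      rw [← hg, Sylow.coe_subgroup_smul]
      exact Subgroup.smul_mem_pointwise_smul t (MulAut.conj g) _ (hP' (Subgroup.mem_zpowers t))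
    have hs2 : orderOf s = 2 := by
      have := (MulAut.conj g).orderOf_eq t
      rw [MulAut.conj_apply] at this
      rw [hs, this, ht]
    obtain ⟨h, hh, hhne⟩ := EightAuto.no_isolated hG R hs2 hsR
    have hh2 : orderOf (h * s * h⁻¹) = 2 := by
      have := (MulAut.conj h).orderOf_eq s
      rw [MulAut.conj_apply] at this
      rw [this, hs2]
    have h2J : ({s, h * s * h⁻¹} : Set G) ⊆ J := by
      intro x hx
      rcases hx with rfl | rfl
      · exact ⟨hs2, Subgroup.le_normalizer (hR hsR)⟩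
      · exact ⟨hh2, Subgroup.le_normalizer (hR hh)⟩
    have h2 := Set.ncard_le_ncard h2J (Set.toFinite _)
    rw [Set.ncard_pair (Ne.symm hhne), hJk] at h2
    obtain ⟨l, hl⟩ := hkodd
    omega
  have hmemD : ∀ v y : G, orderOf v = 2 → (y ∈ D v ↔ y ∈ N ∧ v * y * v ∈ N) := by
    intro v y hv
    have e : v⁻¹ = v := inv_eq_of_mul_eq_one_right (by rw [← pow_two, ← hv, pow_orderOf_eq_one])
    rw [Subgroup.mem_inf, Subgroup.mem_map_equiv, MulAut.conj_symm_apply, e]
  have hself : ∀ v : G, orderOf v = 2 → v * v = 1 := fun v hv => by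
    rw [← pow_two, ← hv, pow_orderOf_eq_one]
  have hinvD : ∀ v : G, orderOf v = 2 → v ∉ N → ∀ d ∈ D v, v * d * v = d⁻¹ := by
    intro v hv hvN d hd
    have evv : v⁻¹ = v := inv_eq_of_mul_eq_one_right (hself v hv)
    set I := {i : G | orderOf i = 2 ∧ i • ((1 : G) : G ⧸ N) = (v : G ⧸ N)} with hI
    have hIcard : I.ncard = k := by
      rw [← hJk, ← Nat.card_coe_set_eq, ← Nat.card_coe_set_eq]
      exact Cfsg.Agent.S1224.result N hSE _ _ fun e => hvN (by
        have := QuotientGroup.eq.1 e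
        simpa using this)
    have hsub : I ⊆ (fun y => v * y) '' (D v : Set G) := by
      rintro i ⟨hi, hix⟩
      have eii : i⁻¹ = i := inv_eq_of_mul_eq_one_right (hself i hi)
      rw [MulAction.Quotient.smul_coe, smul_eq_mul, mul_one] at hix
      have h1 : i * v ∈ N := by simpa [eii] using QuotientGroup.eq.1 hix
      refine ⟨v * i, (hmemD v _ hv).2 ⟨?_, ?_⟩, by show v * (v * i) = i; rw [← mul_assoc, hself v hv, one_mul]⟩
      · have := N.inv_mem h1
        rwa [mul_inv_rev, eii, evv] at this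
      · rwa [← mul_assoc, hself v hv, one_mul]
    have heq := Set.eq_of_subset_of_ncard_le hsub (by
      rw [hIcard, Set.ncard_image_of_injective _ (mul_right_injective v)]
      exact le_of_eq (hDk v hv hvN)) (Set.toFinite _)
    have hm : v * d ∈ I := heq ▸ Set.mem_image_of_mem _ hd
    refine (inv_eq_of_mul_eq_one_right ?_).symm
    calc d * (v * d * v) = v⁻¹ * ((v * d) * (v * d)) * v := by group
      _ = 1 := by rw [hself _ hm.1]; group
  have hDord : ∀ v : G, orderOf v = 2 → v ∉ N → ∀ d ∈ D v, orderOf d ∣ k := by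
    intro v hv hvN d hd
    have := orderOf_dvd_natCard (⟨d, hd⟩ : D v)
    rwa [Subgroup.orderOf_mk, hDk v hv hvN] at this
  obtain ⟨d, hd, hd1⟩ : ∃ d ∈ D u, d ≠ 1 := by
    by_contra! h
    have : D u = ⊥ := by
      rw [eq_bot_iff]
      exact fun y hy => Subgroup.mem_bot.2 (h y hy)
    have e := hDk u hu huN
    rw [this, Subgroup.card_bot] at e
    omega
  have hdk := hDord u hu huN d hd
  have hdA : ∀ g : G, g * d * g⁻¹ ∉ A := fun g hg => by
    have h1 := orderOf_dvd_cn' hg
    have h2 := (MulAut.conj g).orderOf_eq d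
    rw [MulAut.conj_apply] at h2
    rw [h2] at h1
    exact hd1 (orderOf_eq_one_iff.1 (Nat.eq_one_of_dvd_coprimes hkcop h1 hdk))
  set B := Subgroup.centralizer ({d} : Set G) with hB
  have hdB : d ∈ B := mem_self d
  have euu : u⁻¹ = u := inv_eq_of_mul_eq_one_right (hself u hu)
  have hud := hinvD u hu huN d hd
  have hBA : ∀ v ∈ B, v ≠ 1 → ∀ g : G, g * v * g⁻¹ ∉ A := by
    intro v hv hv1 g hg
    apply hdA g
    rw [← hCA _ hg (conj_ne_one hv1), mem_cen_conj]
    convert mem_cen_comm.1 hv using 1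
    group
  have hunorm : ∀ v ∈ B, u * v * u ∈ B := by
    intro v hv
    have h1 : Commute (u * d * u) (u * v * u) := by
      have hc : Commute d v := mem_cen.1 hv
      show (u * d * u) * (u * v * u) = (u * v * u) * (u * d * u)
      calc _ = u * (d * (u * u) * v) * u := by group
        _ = u * (d * v) * u := by rw [hself u hu, mul_one]
        _ = u * (v * (u * u) * d) * u := by rw [hc.eq, hself u hu, mul_one]
        _ = _ := by group
    rw [hud] at h1
    have h2 : Commute d (u * v * u) := by simpa using h1.inv_left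
    exact mem_cen.2 h2.eq
  have huB : ∀ v ∈ B, u * v * u = v⁻¹ := by
    intro v hv
    let φ : B →* B :=
      { toFun := fun y => ⟨u * y * u, hunorm y y.2⟩
        map_one' := Subtype.ext (by simp [hself u hu])
        map_mul' := fun x y => Subtype.ext (by
          show u * ((x : G) * y) * u = u * x * u * (u * y * u)
          calc _ = u * x * (1 * y) * u := by group
            _ = u * x * ((u * u) * y) * u := by rw [hself u hu]
            _ = _ := by group) }
    have hfpf : MonoidHom.FixedPointFree φ := by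
      intro y hy
      by_contra hy1
      have hy1' : (y : G) ≠ 1 := fun e => hy1 (Subtype.ext e)
      have h' : u * (y : G) * u = y := congrArg Subtype.val hy
      have hc : Commute u (y : G) := by
        show u * (y : G) = y * u
        calc u * (y : G) = u * y * (u * u) := by rw [hself u hu, mul_one]
          _ = (u * y * u) * u := by group
          _ = y * u := by rw [h']
      obtain ⟨g, hg⟩ := hinvA u hu
      apply hBA y y.2 hy1' g
      rw [← hCA _ hg (conj_ne_one (ne_one_of_prime Nat.prime_two hu)), mem_cen_conj]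
      convert (mem_cen.2 hc.eq : (y : G) ∈ Subgroup.centralizer ({u} : Set G)) using 1
      group
    have hinv : Function.Involutive φ := fun y => Subtype.ext (by
      show u * (u * (y : G) * u) * u = y
      calc _ = (u * u) * y * (u * u) := by group
        _ = y := by rw [hself u hu]; simp)
    have := congrFun (MonoidHom.FixedPointFree.coe_eq_inv_of_involutive hfpf hinv) ⟨v, hv⟩
    exact congrArg Subtype.val this
  have hCB : ∀ y ∈ B, y ≠ 1 → Subgroup.centralizer ({y} : Set G) = B := by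
    intro y hy hy1
    refine (hac _ _ hd1 hy1 fun w hw => mem_cen.2 ?_).symm
    have h1 := huB _ (B.mul_mem hy hw)
    have h2 : u * (y * w) * u = (u * y * u) * (u * w * u) := by
      calc _ = u * y * (1 * w) * u := by group
        _ = u * y * ((u * u) * w) * u := by rw [hself u hu]
        _ = _ := by group
    rw [h2, huB y hy, huB w hw, mul_inv_rev] at h1
    calc y * w = (w⁻¹ * y⁻¹)⁻¹ := by group
      _ = (y⁻¹ * w⁻¹)⁻¹ := by rw [h1]
      _ = w * y := by group
  have hnoN : ∀ i : G, orderOf i = 2 → i * d * i = d⁻¹ → i ∉ N := by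
    intro i hi hid hiN
    have hiA : i ∈ A := hJA ⟨hi, hiN⟩
    have hdN : d ∈ N := hd.1
    have h2 : d⁻¹ * d⁻¹ ∈ A := by
      have h1 : d * i * d⁻¹ ∈ A := (Subgroup.mem_normalizer_iff.1 hdN i).1 hiA
      have := A.mul_mem hiA h1
      rwa [show i * (d * i * d⁻¹) = (i * d * i) * d⁻¹ by group, hid] at this
    have h3 : d⁻¹ * d⁻¹ = 1 := by
      refine orderOf_eq_one_iff.1 (Nat.eq_one_of_dvd_coprimes hkcop (orderOf_dvd_cn' h2) ?_)
      rw [← pow_two]
      exact (orderOf_pow_dvd 2).trans (by rwa [orderOf_inv])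
    have h4 : orderOf d ∣ 2 := orderOf_dvd_of_pow_eq_one (by
      rw [pow_two, ← inv_inj, mul_inv_rev, inv_one]; exact h3)
    rcases (Nat.dvd_prime Nat.prime_two).1 h4 with h | h
    · exact hd1 (orderOf_eq_one_iff.1 h)
    · rw [h] at hdk
      exact Nat.not_even_iff_odd.2 hkodd (even_iff_two_dvd.2 hdk)
  -- the fixed points of `d` other than the base point form the orbit of `u`
  have hfix : ∀ g : G, g ∉ N → g⁻¹ * d * g ∈ N → ∃ w ∈ B, (w * u)⁻¹ * g ∈ N := by
    intro g hg hgd
    have hc : Nat.card {i : G // orderOf i = 2 ∧ i • ((1 : G) : G ⧸ N) = (g : G ⧸ N)} = k := by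
      rw [Cfsg.Agent.S1224.result N hSE _ _ fun e => hg (by simpa using QuotientGroup.eq.1 e),
        ← hJk, ← Nat.card_coe_set_eq]
      rfl
    obtain ⟨⟨i, hi, hix⟩⟩ :=
      (Nat.card_pos_iff.1 (by omega : 0 < Nat.card
        {i : G // orderOf i = 2 ∧ i • ((1 : G) : G ⧸ N) = (g : G ⧸ N)})).1
    have eii : i⁻¹ = i := inv_eq_of_mul_eq_one_right (hself i hi)
    rw [MulAction.Quotient.smul_coe, smul_eq_mul, mul_one] at hix
    have h1 : i * g ∈ N := by simpa [eii] using QuotientGroup.eq.1 hix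
    have hiN : i ∉ N := fun h => hg (by
      have := N.mul_mem (N.inv_mem h) h1
      rwa [inv_mul_cancel_left] at this)
    have hdi : d ∈ D i := by
      refine (hmemD i d hi).2 ⟨hd.1, ?_⟩
      have h2 := N.mul_mem (N.mul_mem h1 hgd) (N.inv_mem h1)
      have e2 : i * g * (g⁻¹ * d * g) * (i * g)⁻¹ = i * d * i⁻¹ := by group
      rwa [e2, eii] at h2
    have hid := hinvD i hi hiN d hdi
    refine ⟨i * u, mem_cen.2 ?_, ?_⟩
    · calc d * (i * u) = (i * i) * d * (i * u) := by rw [hself i hi, one_mul]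
        _ = i * (i * d * i) * u := by group
        _ = i * d⁻¹ * u := by rw [hid]
        _ = i * (u * d * u) * u := by rw [hud]
        _ = i * u * d * (u * u) := by group
        _ = i * u * d := by rw [hself u hu, mul_one]
    · rw [show i * u * u = i by rw [mul_assoc, hself u hu, mul_one], eii]
      exact h1
  have hvu : ∀ v ∈ B, v * u ∉ N := by
    intro v hv
    have hne : v * u ≠ 1 := fun e => by
      have e' : v = u := by rw [← euu]; exact eq_inv_of_mul_eq_one_left e
      obtain ⟨g, hg⟩ := hinvA u hu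
      exact hBA v hv (e' ▸ ne_one_of_prime Nat.prime_two hu) g (e' ▸ hg)
    refine hnoN _ (orderOf_eq_prime ?_ hne) ?_
    · rw [pow_two, show v * u * (v * u) = v * (u * v * u) by group, huB v hv, mul_inv_cancel]
    · have hvd : Commute d v := mem_cen.1 hv
      calc v * u * d * (v * u) = v * u * (d * v) * u := by group
        _ = v * (u * (d * v) * u) := by group
        _ = v * (d * v)⁻¹ := by rw [huB _ (B.mul_mem hdB hv)]
        _ = d⁻¹ := by group
  have hBN : B ≤ N := by
    intro w hw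
    by_contra hwN
    obtain ⟨v, hv, hvw⟩ := hfix w hwN (by
      rw [mul_assoc, (mem_cen.1 hw : d * w = w * d), inv_mul_cancel_left]
      exact hd.1)
    refine hvu (w⁻¹ * v) (B.mul_mem (B.inv_mem hw) hv) ?_
    have := N.inv_mem hvw
    convert this using 1
    group
  have hBD : B = D u := by
    refine le_antisymm (fun v hv => (hmemD u v hu).2 ⟨hBN hv, ?_⟩) fun v hv => mem_cen.2 ?_
    · rw [huB v hv]; exact N.inv_mem (hBN hv)
    · have h1 := hinvD u hu huN _ (Subgroup.mul_mem _ hd hv)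
      have h2 : u * (d * v) * u = (u * d * u) * (u * v * u) := by
        calc _ = u * d * (1 * v) * u := by group
          _ = u * d * ((u * u) * v) * u := by rw [hself u hu]
          _ = _ := by group
      rw [h2, hud, hinvD u hu huN v hv, mul_inv_rev] at h1
      calc d * v = (v⁻¹ * d⁻¹)⁻¹ := by group
        _ = (d⁻¹ * v⁻¹)⁻¹ := by rw [h1]
        _ = v * d := by group
  have hBk : Nat.card B = k := hBD ▸ hDk u hu huN
  set NB := Subgroup.normalizer (B : Set G) with hNB
  have huNB : u ∈ NB := by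
    rw [hNB, Subgroup.mem_normalizer_iff]
    intro y
    rw [euu]
    refine ⟨hunorm y, fun h => ?_⟩
    have h' := hunorm _ h
    rwa [show u * (u * y * u) * u = (u * u) * y * (u * u) by group, hself u hu, one_mul,
      mul_one] at h'
  have hNBN : ∀ v ∈ NB, v ∈ N → v ∈ B := by
    intro v hv hvN
    have hvuN : v * u ∉ N := fun h => huN (by
      have := N.mul_mem (N.inv_mem hvN) h
      rwa [inv_mul_cancel_left] at this)
    have hfd : (v * u)⁻¹ * d * (v * u) ∈ N := by
      have h1 : v⁻¹ * d * v ∈ B := (Subgroup.mem_normalizer_iff''.1 hv d).1 hdB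
      have h2 := hunorm _ h1
      rw [mul_inv_rev, euu, show u * v⁻¹ * d * (v * u) = u * (v⁻¹ * d * v) * u by group]
      exact hBN h2
    obtain ⟨w, hw, hwv⟩ := hfix _ hvuN hfd
    rw [hBD, hmemD u v hu]
    refine ⟨hvN, ?_⟩
    have h3 : u * w * u ∈ N := hBN (hunorm w hw)
    have h4 := N.mul_mem h3 hwv
    convert h4 using 1
    rw [mul_inv_rev, euu]
    calc u * v * u = u * w * (u * u) * w⁻¹ * v * u := by rw [hself u hu]; group
      _ = _ := by group
  have huB' : u ∉ B := fun h => huN (hBN h)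
  have hNB2 : B.relIndex NB = 2 := by
    rw [Subgroup.relIndex, Subgroup.index_eq_two_iff]
    refine ⟨⟨u, huNB⟩, fun b => ?_⟩
    simp only [Subgroup.mem_subgroupOf, Subgroup.coe_mul]
    by_cases hb : (b : G) ∈ B
    · exact Or.inr ⟨hb, fun h => huB' (by
        have := B.mul_mem (B.inv_mem hb) h
        rwa [inv_mul_cancel_left] at this)⟩
    · refine Or.inl ⟨?_, hb⟩
      have hbN : (b : G) ∉ N := fun h => hb (hNBN _ b.2 h)
      obtain ⟨w, hw, hwb⟩ := hfix _ hbN (hBN ((Subgroup.mem_normalizer_iff''.1 b.2 d).1 hdB))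
      have h1 : (w * u)⁻¹ * b ∈ NB :=
        NB.mul_mem (NB.inv_mem (NB.mul_mem (Subgroup.le_normalizer hw) huNB)) b.2
      have h2 := hNBN _ h1 hwb
      have h3 := B.mul_mem hw (hunorm _ h2)
      convert h3 using 1
      calc (b : G) * u = w * (u * u) * w⁻¹ * b * u := by rw [hself u hu]; group
        _ = _ := by rw [mul_inv_rev, euu]; group
  set g := Nat.card G with hg
  set NA := N.index with hNA
  set nb := NB.index with hnb
  have hgA : g = a * k * NA := by rw [hg, ← A.card_mul_index, ← hkg, ← ha, mul_assoc]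
  have hgB : g = k * 2 * nb := by
    rw [hg, ← B.card_mul_index, hBk, ← Subgroup.relIndex_mul_index
      (Subgroup.le_normalizer : B ≤ Subgroup.normalizer (B : Set G)), ← hNB, hNB2, ← mul_assoc]
  have hNA2 : 2 ≤ NA := by
    have h1 : NA ≠ 0 := Subgroup.index_ne_zero_of_finite
    have h2 : NA ≠ 1 := fun h => hNne (Subgroup.index_eq_one.1 h)
    omega
  have hUA := ncard_conjU A fun g hg y hy => hti hg hy
  have hUB := ncard_conjU B fun g hg y hy => cc_ti hCB hg hy
  rw [← hN, ← hNA, ← ha] at hUA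
  rw [← hNB, ← hnb, hBk] at hUB
  have hBcop : k.Coprime B.index := by
    rw [← hBk]
    exact Cfsg.Agent.S0588.result B fun x hx h1 => (hCB x hx h1).le
  have hak : a ≠ k := fun e => Nat.not_even_iff_odd.2 hkodd (even_iff_two_dvd.2 (e ▸ h2a))
  have hcnA : ∀ y ∈ conjU A, cn y = a := fun y hy => cn_of_conjU hCA hy
  have hcnB : ∀ y ∈ conjU B, cn y = k := fun y hy => by rw [cn_of_conjU hCB hy, hBk]
  have hUdisj : Disjoint (conjU A) (conjU B) :=
    Set.disjoint_left.2 fun y h1 h2 => hak ((hcnA y h1).symm.trans (hcnB y h2))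
  have hpA : ∀ p : ℕ, p.Prime → p ∣ a → ¬ p ∣ A.index := fun p hp h1 h2 =>
    hp.ne_one (Nat.eq_one_of_dvd_coprimes hAcop h1 h2)
  have hpB : ∀ p : ℕ, p.Prime → p ∣ k → ¬ p ∣ B.index := fun p hp h1 h2 =>
    hp.ne_one (Nat.eq_one_of_dvd_coprimes hBcop h1 h2)
  set T := ({1}ᶜ : Set G) \ (conjU A ∪ conjU B) with hT
  have hTU : ∀ y ∈ T, ∀ p : ℕ, p.Prime → p ∣ orderOf y → ¬ p ∣ a ∧ ¬ p ∣ k := fun y hy p hp hpy =>
    ⟨fun h => hy.2 (Or.inl (mem_conjU_of_dvd hCA hp (hpA p hp h) hpy)),
      fun h => hy.2 (Or.inr (mem_conjU_of_dvd hCB hp (hpB p hp h) hpy))⟩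
  have hUsub : conjU A ∪ conjU B ⊆ ({1}ᶜ : Set G) :=
    Set.union_subset (conjU_subset _) (conjU_subset _)
  have hTcard : T.ncard + NA * (a - 1) + nb * (k - 1) + 1 = g := by
    have h1 := Set.ncard_sdiff_add_ncard_of_subset hUsub (Set.toFinite _)
    rw [Set.ncard_union_eq hUdisj (Set.toFinite _) (Set.toFinite _), hUA, hUB, ← hT,
      ncard_compl_one, ← hg] at h1
    have : 0 < g := Nat.card_pos
    omega
  have ha2 : 2 ≤ a := Nat.le_of_dvd Nat.card_pos h2a
  have hTeq : (2 * a * k * T.ncard : ℤ) =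
      g * ((a : ℤ) * k - a + 2) - 2 * a * k := by
    have h1 : ((T.ncard : ℤ) + NA * ((a : ℤ) - 1) + nb * ((k : ℤ) - 1) + 1) = g := by
      have h := congrArg (Nat.cast : ℕ → ℤ) hTcard
      push_cast [Nat.cast_sub (by omega : 1 ≤ a), Nat.cast_sub (by omega : 1 ≤ k)] at h
      exact h
    have h2 : (g : ℤ) = a * k * NA := by exact_mod_cast hgA
    have h3 : (g : ℤ) = k * 2 * nb := by exact_mod_cast hgB
    linear_combination (2 * (a : ℤ) * k) * h1 + (2 * ((a : ℤ) - 1)) * h2 + ((a : ℤ) * (k - 1)) * h3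
  have hT3 : g < 3 * T.ncard := by
    have h : (g : ℤ) < 3 * T.ncard := by
      refine lt_of_mul_lt_mul_left ?_ (by positivity : (0 : ℤ) ≤ 2 * a * k)
      have h2 : (g : ℤ) = a * k * NA := by exact_mod_cast hgA
      have h4 : (0 : ℤ) ≤ g * (a * ((k : ℤ) - 3)) := by
        have : (3 : ℤ) ≤ k := by exact_mod_cast hk3
        exact mul_nonneg (by positivity) (mul_nonneg (by positivity) (by linarith))
      have h5 : (0 : ℤ) < a * k * ((NA : ℤ) - 1) := by
        have : (2 : ℤ) ≤ NA := by exact_mod_cast hNA2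
        exact mul_pos (mul_pos (by exact_mod_cast (by omega : 0 < a))
          (by exact_mod_cast (by omega : 0 < k))) (by linarith)
      linarith
    exact_mod_cast h
  -- the third kind of element
  obtain ⟨y₀, hy₀⟩ : T.Nonempty := by
    rw [← Set.ncard_pos (Set.toFinite _)]
    omega
  have hy₀1 : y₀ ≠ 1 := hy₀.1
  set c := cn y₀ with hc
  have hTcn : ∀ y ∈ T, cn y ≠ a ∧ cn y ≠ k := by
    intro y hy
    obtain ⟨p, hp, hpy⟩ := Nat.exists_prime_and_dvd (fun h => hy.1 (orderOf_eq_one_iff.1 h))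
    exact ⟨fun e => (hTU y hy p hp hpy).1 (e ▸ hpy.trans (orderOf_dvd_cn y)),
      fun e => (hTU y hy p hp hpy).2 (e ▸ hpy.trans (orderOf_dvd_cn y))⟩
  set V := cn '' ({1}ᶜ : Set G) with hVd
  have haV : a ∈ V := ⟨t, ht1, rfl⟩
  have hkV : k ∈ V := ⟨d, hd1, hBk⟩
  have hval : ∀ y ∈ T, cn y = c := by
    intro y hy
    have hsub : ({a, k} : Set ℕ) ⊆ V :=
      Set.insert_subset haV (Set.singleton_subset_iff.2 hkV)
    have h1 : (V \ {a, k}).ncard = 1 := by rw [Set.ncard_sdiff hsub, hV, Set.ncard_pair hak]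
    obtain ⟨b, hb⟩ := Set.ncard_eq_one.1 h1
    have h2 : ∀ z ∈ T, cn z = b := fun z hz => by
      have : cn z ∈ ({b} : Set ℕ) := hb ▸ ⟨⟨z, hz.1, rfl⟩, by
        rintro (e | e)
        · exact (hTcn z hz).1 e
        · exact (hTcn z hz).2 e⟩
      exact this
    rw [hc, h2 y hy, h2 y₀ hy₀]
  set C := Subgroup.centralizer ({y₀} : Set G) with hC
  have hCT : ∀ v ∈ C, v ≠ 1 → v ∈ T := by
    intro v hv hv1
    refine ⟨hv1, fun hU => hy₀.2 ?_⟩
    have key : ∀ X : Subgroup G,
        (∀ x ∈ X, x ≠ 1 → Subgroup.centralizer ({x} : Set G) = X) →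
        v ∈ conjU X → y₀ ∈ conjU X := by
      rintro X hX ⟨-, h, hh⟩
      refine ⟨hy₀1, h, ?_⟩
      have h1 : h⁻¹ * v * h ≠ 1 := fun e => hv1 (by
        calc v = h * (h⁻¹ * v * h) * h⁻¹ := by group
          _ = 1 := by rw [e]; group)
      rw [← hX _ hh h1]
      have h2 : y₀ ∈ Subgroup.centralizer ({v} : Set G) := mem_cen_comm.1 hv
      rw [show v = h * (h⁻¹ * v * h) * h⁻¹ by group, mem_cen_conj] at h2
      exact h2
    rcases hU with h | h
    · exact Or.inl (key A hCA h)
    · exact Or.inr (key B hCB h)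
  have hcak : ∀ p : ℕ, p.Prime → p ∣ c → ¬ p ∣ a ∧ ¬ p ∣ k := by
    intro p hp hpc
    haveI := Fact.mk hp
    obtain ⟨v, hv⟩ := exists_prime_orderOf_dvd_card' (G := C) p hpc
    rw [← Subgroup.orderOf_coe] at hv
    exact hTU v (hCT v v.2 (ne_one_of_prime hp hv)) p hp (by rw [hv])
  have hc3 : 3 ≤ c := by
    have h1 : c ≠ 1 := fun h => hy₀1 (orderOf_eq_one_iff.1 (Nat.dvd_one.1 (h ▸ orderOf_dvd_cn y₀)))
    have h0 : 0 < c := cn_pos y₀
    have h2 : c ≠ 2 := fun h => (hcak 2 Nat.prime_two (by rw [h])).1 h2a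
    omega
  by_cases hCab : ∀ v w : G, v ∈ C → w ∈ C → v * w = w * v
  swap
  · exfalso
    rcases cc_or_pgroup hac hy₀1 with h | ⟨p, hp, hpg⟩
    · exact hCab fun v w hv hw => congrArg Subtype.val ((cc_comm h).is_comm.comm ⟨v, hv⟩ ⟨w, hw⟩)
    haveI := Fact.mk hp
    obtain ⟨s, hs⟩ : ∃ s, c = p ^ s := IsPGroup.iff_card.1 hpg
    have hp3 : 3 ≤ p := by
      have h2 := hp.two_le
      have h : p ≠ 2 := by
        rintro rfl
        rcases s with _ | s
        · simp at hs; omega
        · exact (hcak 2 hp (hs ▸ dvd_pow_self 2 (by omega))).1 h2a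
      omega
    obtain ⟨P, hCP⟩ := hpg.exists_le_sylow
    have hsylow : ∀ (Q : Sylow p G) (y : G), y ∈ T →
        Subgroup.centralizer ({y} : Set G) ≤ (Q : Subgroup G) →
        Subgroup.centralizer ({y} : Set G) = (Q : Subgroup G) := by
      intro Q y hy hle
      haveI : Nontrivial (Q : Subgroup G) :=
        (Subgroup.nontrivial_iff_ne_bot _).2 fun h => hy.1 (by
          have := hle (mem_self y)
          rw [h] at this
          exact Subgroup.mem_bot.1 this)
      haveI := Q.2.center_nontrivial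
      obtain ⟨z, hz⟩ := exists_ne (1 : Subgroup.center (Q : Subgroup G))
      have hz1 : ((z : (Q : Subgroup G)) : G) ≠ 1 := fun e => hz (Subtype.ext (Subtype.ext e))
      have hQz : (Q : Subgroup G) ≤ Subgroup.centralizer ({((z : (Q : Subgroup G)) : G)} : Set G) :=
        fun v hv => mem_cen.2 (congrArg Subtype.val (Subgroup.mem_center_iff.1 z.2 ⟨v, hv⟩)).symm
      have e := hac _ _ hy.1 hz1 (hle.trans hQz)
      rw [e] at hle ⊢
      exact le_antisymm hle hQz
    have hCPeq : C = (P : Subgroup G) := hsylow P y₀ hy₀ hCP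
    set Z := (P : Subgroup G) ⊓ Subgroup.centralizer ((P : Subgroup G) : Set G) with hZ
    have hTsub : T ⊆ ⋃ q : G ⧸ (P : Subgroup G),
        (fun v => q.out * v * q.out⁻¹) '' ((Z : Set G) \ {1}) := by
      intro y hy
      have hpg' : IsPGroup p (Subgroup.centralizer ({y} : Set G)) :=
        IsPGroup.of_card (n := s) ((hval y hy).trans hs)
      obtain ⟨Q, hQ⟩ := hpg'.exists_le_sylow
      have hQeq := hsylow Q y hy hQ
      obtain ⟨h, hh⟩ := MulAction.exists_smul_eq G P Q
      obtain ⟨n, hn⟩ := QuotientGroup.mk_out_eq_mul (P : Subgroup G) h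
      set w := (h * n)⁻¹ * y * (h * n) with hw
      have hwy : y = (h * n) * w * (h * n)⁻¹ := by rw [hw]; group
      have hwP : Subgroup.centralizer ({w} : Set G) = (P : Subgroup G) := by
        ext v
        have e : v ∈ Subgroup.centralizer ({w} : Set G) ↔
            (h * n) * v * (h * n)⁻¹ ∈ Subgroup.centralizer ({y} : Set G) := by
          rw [hwy, mem_cen_conj]
          simp [mul_assoc]
        rw [e, hQeq, ← hh, Sylow.coe_subgroup_smul,
          Subgroup.mem_pointwise_smul_iff_inv_smul_mem, ← map_inv, MulAut.smul_def,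
          MulAut.conj_apply, inv_inv, show h⁻¹ * ((h * n) * v * (h * n)⁻¹) * h = n * v * (n : G)⁻¹ by group]
        exact ⟨fun h' => by
          have := Subgroup.mul_mem _ (Subgroup.mul_mem _ (Subgroup.inv_mem _ n.2) h') n.2
          simpa [mul_assoc] using this,
          fun h' => Subgroup.mul_mem _ (Subgroup.mul_mem _ n.2 h') (Subgroup.inv_mem _ n.2)⟩
      refine Set.mem_iUnion.2 ⟨(h : G ⧸ (P : Subgroup G)), w, ⟨⟨hwP ▸ mem_self w, ?_⟩, ?_⟩, ?_⟩
      · refine Subgroup.mem_centralizer_iff.2 fun v hv => ?_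
        exact (mem_cen.1 (hwP.symm ▸ hv : v ∈ Subgroup.centralizer ({w} : Set G))).symm
      · intro e
        rw [Set.mem_singleton_iff] at e
        apply hy.1
        show y = 1
        rw [hwy, e]
        group
      · simp only
        rw [hn, ← hwy]
    haveI := Fintype.ofFinite (G ⧸ (P : Subgroup G))
    have hcount : T.ncard ≤ (P : Subgroup G).index * (Nat.card Z - 1) := by
      refine (Set.ncard_le_ncard hTsub (Set.toFinite _)).trans
        ((Set.ncard_iUnion_le_of_fintype (ι := G ⧸ (P : Subgroup G))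
          (s := fun q => (fun v => q.out * v * q.out⁻¹) '' ((Z : Set G) \ {1}))).trans ?_)
      refine (Finset.sum_le_card_nsmul _ _ (Nat.card Z - 1) fun q _ => ?_).trans (le_of_eq ?_)
      · refine (Set.ncard_image_le (Set.toFinite _)).trans (le_of_eq ?_)
        exact Set.ncard_sdiff_singleton_of_mem (one_mem Z)
      · rw [smul_eq_mul, Finset.card_univ, Subgroup.index, Nat.card_eq_fintype_card (α := G ⧸ _)]
    have hZc : 3 * Nat.card Z ≤ c := by
      have hcP : Nat.card (P : Subgroup G) = c := (congrArg (fun H : Subgroup G => Nat.card H) hCPeq).symm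
      obtain ⟨l, hl⟩ := Subgroup.card_dvd_of_le (inf_le_left : Z ≤ (P : Subgroup G))
      rw [hcP] at hl
      have hl1 : l ≠ 1 := by
        intro e
        rw [e, mul_one] at hl
        have hZP : Z = (P : Subgroup G) :=
          Subgroup.eq_of_le_of_card_ge inf_le_left (by rw [hcP, hl])
        apply hCab
        intro v w hv hw
        rw [hCPeq] at hv hw
        have hv' : v ∈ Z := hZP.symm ▸ hv
        exact (Subgroup.mem_centralizer_iff.1 hv'.2 w hw).symm
      have hl3 : 3 ≤ l := by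
        obtain ⟨j, -, hj⟩ := (Nat.dvd_prime_pow hp).1 (hs ▸ ⟨Nat.card Z, by rw [hl, mul_comm]⟩ : l ∣ p ^ s)
        rcases j with _ | j
        · exact absurd (by simpa using hj) hl1
        · rw [hj]
          exact hp3.trans (Nat.le_self_pow (by omega) p)
      rw [hl, mul_comm (Nat.card Z) l]
      exact Nat.mul_le_mul_right _ hl3
    have hgP : c * (P : Subgroup G).index = g := by
      rw [hg, ← (P : Subgroup G).card_mul_index, ← hCPeq]
      rfl
    have h1 := Nat.mul_le_mul_left 3 hcount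
    have h2 : 3 * ((P : Subgroup G).index * (Nat.card Z - 1)) ≤ (P : Subgroup G).index * c := by
      rw [mul_left_comm]
      exact Nat.mul_le_mul_left _ (by omega)
    rw [mul_comm _ c, hgP] at h2
    omega
  have hCC : ∀ x ∈ C, x ≠ 1 → Subgroup.centralizer ({x} : Set G) = C := fun x hx hx1 =>
    (hac _ _ hy₀1 hx1 fun w hw => mem_cen.2 (hCab x w hx hw)).symm
  have hCcard : Nat.card C = c := rfl
  have hCcop : c.Coprime C.index := Cfsg.Agent.S0588.result C fun x hx h1 => (hCC x hx h1).le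
  have hUC : conjU C = T := by
    refine Set.Subset.antisymm (fun y hy => ⟨hy.1, fun hU => ?_⟩) fun y hy => ?_
    · have h1 : cn y = c := (cn_of_conjU hCC hy).trans hCcard
      rcases hU with h | h
      · exact (hTcn y₀ hy₀).1 (h1.symm.trans (hcnA y h))
      · exact (hTcn y₀ hy₀).2 (h1.symm.trans (hcnB y h))
    · obtain ⟨p, hp, hpy⟩ := Nat.exists_prime_and_dvd (fun h => hy.1 (orderOf_eq_one_iff.1 h))
      refine mem_conjU_of_dvd hCC hp (fun h => ?_) hpy
      exact hp.ne_one (Nat.eq_one_of_dvd_coprimes hCcop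
        (hval y hy ▸ hpy.trans (orderOf_dvd_cn y)) h)
  set e := C.relIndex (Subgroup.normalizer (C : Set G)) with he
  set nc := (Subgroup.normalizer (C : Set G)).index with hnc
  have hgC : g = c * e * nc := by
    rw [hg, ← C.card_mul_index, he, hnc, mul_assoc, Subgroup.relIndex_mul_index Subgroup.le_normalizer]
    rfl
  have hTC : T.ncard = nc * (c - 1) := by
    rw [← hUC, ncard_conjU C fun g hg y hy => cc_ti hCC hg hy, hCcard]
  have hcopa : c.Coprime a := Nat.coprime_of_dvd fun p hp h1 h2 => (hcak p hp h1).1 h2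
  have hcopk : c.Coprime k := Nat.coprime_of_dvd fun p hp h1 h2 => (hcak p hp h1).2 h2
  obtain ⟨r, hr⟩ : a * k * c ∣ g := by
    refine Nat.Coprime.mul_dvd_of_dvd_of_dvd
      (Nat.Coprime.mul_left hcopa.symm hcopk.symm) ⟨NA, hgA⟩ ⟨e * nc, by rw [hgC, mul_assoc]⟩
  have hr1 : r = 1 := by
    by_contra h
    obtain ⟨p, hp, hpr⟩ := Nat.exists_prime_and_dvd h
    obtain ⟨w, hw, hwp⟩ := exists_central hp ((hpr.mul_left (a * k * c)).trans (dvd_of_eq hr.symm))
    apply hwp
    refine hpr.trans ?_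
    have hi := cn_mul_index w
    rw [← hg, hr] at hi
    by_cases hwA : w ∈ conjU A
    · rw [hcnA w hwA, mul_assoc, mul_assoc] at hi
      rw [Nat.eq_of_mul_eq_mul_left (by omega) hi]
      exact (dvd_mul_left r c).mul_left k
    by_cases hwB : w ∈ conjU B
    · rw [hcnB w hwB, mul_comm a k, mul_assoc, mul_assoc] at hi
      rw [Nat.eq_of_mul_eq_mul_left (by omega) hi]
      exact (dvd_mul_left r c).mul_left a
    · have hwT : w ∈ T := ⟨hw, fun h => h.elim hwA hwB⟩
      rw [hval w hwT, mul_comm (a * k) c, mul_assoc] at hi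
      rw [Nat.eq_of_mul_eq_mul_left (by omega) hi]
      exact dvd_mul_left r _
  rw [hr1, mul_one] at hr
  have heq : (2 * ((a : ℤ) * k) * ((c : ℤ) - 1)) = e * (c * ((a : ℤ) * k - a + 2) - 2) := by
    have h2 : (g : ℤ) = c * e * nc := by exact_mod_cast hgC
    have h3 : (g : ℤ) = a * k * c := by exact_mod_cast hr
    have h4 : (T.ncard : ℤ) = nc * ((c : ℤ) - 1) := by
      rw [hTC]; push_cast [Nat.cast_sub (by omega : 1 ≤ c)]; ring
    have h0 : (a : ℤ) * k * c ≠ 0 := by
      have : 0 < a * k * c := by positivity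
      exact_mod_cast this.ne'
    apply mul_left_cancel₀ h0
    linear_combination (c * (e : ℤ)) * hTeq - (2 * a * k * c * e : ℤ) * h4
      + (2 * (a : ℤ) * k * ((c : ℤ) - 1)) * h2
      + (e * c * ((a : ℤ) * k - a + 2) - 2 * a * k * ((c : ℤ) - 1) : ℤ) * h3
  have he2 : e = 2 := by
    have he0 : e ≠ 0 := Subgroup.index_ne_zero_of_finite
    have hk' : (3 : ℤ) ≤ k := by exact_mod_cast hk3
    have ha' : (2 : ℤ) ≤ a := by exact_mod_cast ha2
    have hc' : (3 : ℤ) ≤ c := by exact_mod_cast hc3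
    by_contra hne
    rcases (by omega : e = 1 ∨ 3 ≤ e) with h | h
    · rw [h, Nat.cast_one, one_mul] at heq
      nlinarith [mul_nonneg (mul_nonneg (by positivity : (0 : ℤ) ≤ a) (by positivity : (0 : ℤ) ≤ k))
        (by linarith : (0 : ℤ) ≤ (c : ℤ) - 3), mul_nonneg (by linarith : (0 : ℤ) ≤ c)
        (by linarith : (0 : ℤ) ≤ (a : ℤ) - 2), mul_pos (by linarith : (0 : ℤ) < a)
        (by linarith : (0 : ℤ) < k)]
    · have hX : (0 : ℤ) ≤ c * ((a : ℤ) * k - a + 2) - 2 := by
        nlinarith [mul_nonneg (by linarith : (0 : ℤ) ≤ a) (by linarith : (0 : ℤ) ≤ (k : ℤ) - 1)]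
      have h3 := mul_le_mul_of_nonneg_right (by exact_mod_cast h : (3 : ℤ) ≤ e) hX
      nlinarith [mul_nonneg (mul_nonneg (by linarith : (0 : ℤ) ≤ c) (by linarith : (0 : ℤ) ≤ a))
        (by linarith : (0 : ℤ) ≤ (k : ℤ) - 3), mul_pos (by linarith : (0 : ℤ) < a)
        (by linarith : (0 : ℤ) < k)]
  rw [he2] at heq
  have hJ1 : insert (1 : G) J ⊆ A := Set.insert_subset A.one_mem hJA
  have hJn : (insert (1 : G) J).ncard = k + 1 := by
    rw [Set.ncard_insert_of_notMem (fun h => ne_one_of_prime Nat.prime_two h.1 rfl) (Set.toFinite _),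
      hJk]
  have hak1 : k + 1 ≤ a := hJn ▸ Set.ncard_le_ncard hJ1 (Set.toFinite _)
  have hcodd : Odd c := Nat.not_even_iff_odd.1 fun h =>
    (hcak 2 Nat.prime_two (even_iff_two_dvd.1 h)).1 h2a
  push_cast at heq
  have heq2 : (a : ℤ) * ((c : ℤ) - k) = 2 * ((c : ℤ) - 1) := by
    have : 2 * ((a : ℤ) * ((c : ℤ) - k)) = 2 * (2 * ((c : ℤ) - 1)) := by linear_combination heq
    linarith
  have hck : k + 2 ≤ c := by
    by_contra hlt
    obtain ⟨i, hi⟩ := hkodd
    obtain ⟨j, hj⟩ := hcodd
    have hle : (c : ℤ) ≤ k := by exact_mod_cast (by omega : c ≤ k)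
    have h1 : (a : ℤ) * ((c : ℤ) - k) ≤ 0 :=
      mul_nonpos_of_nonneg_of_nonpos (Int.natCast_nonneg a) (by linarith)
    have h2 : (3 : ℤ) ≤ c := by exact_mod_cast hc3
    linarith
  have hak' : a = k + 1 := by
    refine le_antisymm ?_ hak1
    have hck' : (k : ℤ) + 2 ≤ c := by exact_mod_cast hck
    have ha' : (2 : ℤ) ≤ a := by exact_mod_cast ha2
    have : (a : ℤ) ≤ k + 1 := by
      have h1 := mul_nonneg (by linarith : (0 : ℤ) ≤ (a : ℤ) - 2)
        (by linarith : (0 : ℤ) ≤ (c : ℤ) - k - 2)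
      linarith
    exact_mod_cast this
  have hexp : ∀ v ∈ A, v ^ 2 = 1 := by
    intro v hv
    have h := Set.eq_of_subset_of_ncard_le hJ1 (le_of_eq (by rw [hJn, ← hak']; rfl)) (Set.toFinite _)
    rw [← SetLike.mem_coe, ← h] at hv
    rcases hv with rfl | hv
    · exact one_pow _
    · rw [← hv.1, pow_orderOf_eq_one]
  haveI := Fact.mk Nat.prime_two
  have hA2g : IsPGroup 2 A := fun v =>
    ⟨1, Subtype.ext (by simpa using hexp v v.2)⟩
  obtain ⟨S, hSA⟩ := exists_sylow_le hA2
  have hS : A = (S : Subgroup G) := S.is_maximal' hA2g hSA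
  have hnc : ¬ IsCyclic (S : Subgroup G) := by
    rw [← hS]
    intro hcyc
    obtain ⟨z, hz⟩ := IsCyclic.exists_generator (α := A)
    have h1 : orderOf z = a := orderOf_eq_card_of_forall_mem_zpowers hz
    have h2 : orderOf z ∣ 2 := orderOf_dvd_of_pow_eq_one (Subtype.ext (by simpa using hexp z z.2))
    have := Nat.le_of_dvd (by norm_num) h2
    omega
  have hnn : ¬ (S : Subgroup G).Normal := fun h => hNne (by
    rw [hN, hS]; exact Subgroup.normalizer_eq_top_iff.2 h)
  have hinvC : ∀ s : G, orderOf s = 2 → IsMulCommutative (Subgroup.centralizer ({s} : Set G)) ∧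
      ∀ v ∈ Subgroup.centralizer ({s} : Set G), v ^ 2 = 1 := by
    intro s hs
    obtain ⟨h, hh⟩ := hinvA s hs
    have he := hCA _ hh (conj_ne_one (ne_one_of_prime Nat.prime_two hs))
    have hmem : ∀ v ∈ Subgroup.centralizer ({s} : Set G), h * v * h⁻¹ ∈ A := fun v hv => by
      rw [← he, mem_cen_conj]
      convert hv using 1
      group
    have hsq : ∀ v ∈ Subgroup.centralizer ({s} : Set G), v ^ 2 = 1 := fun v hv => by
      have := hexp _ (hmem v hv)
      rwa [conj_pow, conj_eq_one_iff] at this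
    refine ⟨⟨⟨fun v w => Subtype.ext ?_⟩⟩, hsq⟩
    have e1 : ∀ x ∈ Subgroup.centralizer ({s} : Set G), x⁻¹ = x := fun x hx =>
      inv_eq_of_mul_eq_one_right (by rw [← pow_two, hsq x hx])
    show (v : G) * w = w * v
    calc (v : G) * w = ((v : G) * w)⁻¹ := (e1 _ (Subgroup.mul_mem _ v.2 w.2)).symm
      _ = (w : G) * v := by rw [mul_inv_rev, e1 _ v.2, e1 _ w.2]
  obtain ⟨F, hF, hFt, hcard, hiso⟩ := Cfsg.Agent.S1230.result S hnc hnn hinvC
  obtain ⟨m, hm⟩ := IsPGroup.iff_card.1 S.2
  refine ⟨m, F, hF, hFt, ?_, hcard.trans hm, hiso⟩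
  have : a = 2 ^ m := by rw [← hm, ha, hS]
  by_contra hlt
  have : 2 ^ m ≤ 2 ^ 1 := Nat.pow_le_pow_right (by norm_num) (by omega)
  omega

end Cfsg.Agent.Lib.Inv59.RankThree
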